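import Groth.Agent.L08.MonoRed.Setup
import Groth.Agent.L08.TorusWeights.URZ
import Groth.Agent.L08.Borel.MaxTorusEtale
import Groth.Agent.L06.RootLines.Roots

/-!
# Maximal tori over strictly henselian rings, self-centralisation at geometric points
-/

set_option autoImplicit false
set_option linter.unusedSectionVars false
set_option linter.style.haveILetI false
set_option backward.isDefEq.respectTransparency.types false
set_option maxHeartbeats 1000000
set_option linter.deprecated false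

universe u

open CategoryTheory CategoryTheory.Limits MonoidalCategory CartesianMonoidalCategory MonObj GrpObj AlgebraicGeometry
open Groth.L25.SplitSub (bcDS bcHom)
open Groth.L25.LimHom (cmp isMonHom_cmp)
open Groth.L08.MonoRed

noncomputable section

namespace Groth.L08.MonoURZ

variable {S : Scheme.{u}} {G : Over S} [GrpObj G] [Smooth G.hom] [QuasiCompact G.hom]

/-- **maximal tori of all geometric fibres are their own centralisers** -/
theorem selfCentral_geom (hu0 : SGA3x.UnipotentRankZero G) {L : Type u} [Field L] [IsAlgClosed L]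
    (b : Spec (CommRingCat.of L) ⟶ S) {T : Over (Spec (CommRingCat.of L))} [GrpObj T] {i : T ⟶ Red.bc b G}
    (hi : AGF.IsMaxTorus i) : Red.IsCentralizerOf i i := by
  obtain ⟨⟨s, f⟩, hb⟩ := (Scheme.SpecToEquivOfField L S).symm.surjective b
  let κ := S.residueField s
  letI : Algebra κ L := f.hom.toAlgebra
  let φ : AlgebraicClosure κ →ₐ[κ] L := IsAlgClosed.lift
  let θ := Spec.map (CommRingCat.ofHom φ.toRingHom)
  have hθ : θ ≫ Red.geomPt s = b := by
    rw [← hb]
    show _ ≫ Spec.map _ ≫ S.fromSpecResidueField s = Spec.map f ≫ S.fromSpecResidueField s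
    rw [← Category.assoc, ← Spec.map_comp]
    congr 2
    exact CommRingCat.hom_ext (RingHom.ext fun x => φ.commutes x)
  obtain ⟨m, hm⟩ := Groth.L08.Borel.exists_redRank (G := G) s
  obtain ⟨T₀, gT₀, i₀, h₀, -⟩ := Groth.L08.Borel.hasRedRank_iff.1 hm
  have hc₀ : Red.IsCentralizerOf i₀ i₀ := hu0 s T₀ i₀ (Groth.L08.Borel.isMaximalTorus_of_isMaxTorus h₀)
  haveI : Smooth (Red.geomFibre s G).hom := inferInstanceAs (Smooth (pullback.snd G.hom (Red.geomPt s)))
  haveI : QuasiCompact (Red.geomFibre s G).hom := inferInstanceAs (QuasiCompact (pullback.snd G.hom (Red.geomPt s)))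
  haveI : Smooth (Red.bc b G).hom :=
    inferInstanceAs (Smooth (pullback.snd G.hom _))
  haveI : QuasiCompact (Red.bc b G).hom :=
    inferInstanceAs (QuasiCompact (pullback.snd G.hom _))
  have hiθ := Groth.L08.Borel.isMaxTorus_bc_field h₀ θ
  haveI := hiθ.1; haveI := hiθ.2.1
  haveI := isMonHom_cmp hθ G
  let i₁ := (Over.pullback θ).map i₀ ≫ (cmp hθ G).hom
  haveI : IsMonHom i₁ := inferInstanceAs (IsMonHom (_ ≫ _))
  refine Groth.L08.TorusWeights.selfCentral_all (i := i₁) (Groth.L08.Borel.isMaxTorus_comp_iso hiθ (cmp hθ G)) hi ?_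
  exact Groth.L08.Borel.isCentralizerOf_transport (cmp hθ G) (Iso.refl _) (Category.id_comp _)
    (Iso.refl _) (Category.id_comp _) (Groth.L08.Borel.isCentralizerOf_bc θ hc₀)

omit [Smooth G.hom] [QuasiCompact G.hom] in
/-- precomposition with an isomorphism preserves maximal tori -/
theorem isMaximalTorus_iso_comp {T T' : Over S} [GrpObj T] [GrpObj T'] (e : T' ≅ T) [IsMonHom e.hom] {i : T ⟶ G}
    (hi : Red.IsMaximalTorus i) (hT' : Red.IsTorus T') : Red.IsMaximalTorus (e.hom ≫ i) := by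
  haveI := hi.1; haveI := hi.2.1
  refine ⟨inferInstance, mono_comp _ _, hT', fun s T₁ _ j _ _ f hT₁ hf => ?_⟩
  let F := Over.pullback (Red.geomPt s)
  haveI : IsIso (F.map e.inv ≫ f) := hi.2.2.2 s T₁ j _ hT₁ (by
    rw [Category.assoc, hf, ← Functor.map_comp, Iso.inv_hom_id_assoc])
  exact IsIso.of_isIso_comp_left (F.map e.inv) f

variable {V : Type u} [CommRing V] [HenselianLocalRing V] [IsAlgClosed (IsLocalRing.ResidueField V)]

omit [Smooth G.hom] [QuasiCompact G.hom] in
/-- **tori over strictly henselian rings are split** -/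
theorem exists_split_torus_local {T : Over (Spec (CommRingCat.of V))} [GrpObj T] (hT : Red.IsTorus T) :
    ∃ r : ℕ, Red.IsSplitTorusWith (Fin r → ℤ) T := by
  obtain ⟨B, v, hv, ⟨p, hp⟩, M, _, hM, ⟨e⟩⟩ := Groth.L25.Extend.exists_etale_split
    (Groth.L25.Locus.isMultTypeFT_of_isTorus hT) (IsLocalRing.closedPoint V)
  haveI : Etale v := hv
  obtain ⟨σ, hσ⟩ := exists_etale_section v (𝟙 (Spec (CommRingCat.of V))) (p := p) hp
  let eV : Grp.mk T ≅ Grp.mk (Red.DS (Spec (CommRingCat.of V)) M) :=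
    (Functor.mapGrpIdIso.app (Grp.mk T)).symm ≪≫
      (Functor.mapGrpNatIso (Over.pullbackId (X := Spec (CommRingCat.of V))).symm).app (Grp.mk T) ≪≫
      (Grp.mkIso' (ActBC.bcCompIso σ v T hσ)).symm ≪≫
      (Over.pullback σ).mapGrp.mapIso e ≪≫
      Grp.mkIso' (ActBC.bcCompIso σ (Limits.IsTerminal.from specULiftZIsTerminal B) (Red.diag (ULift.{u} ℤ) M)
        (specULiftZIsTerminal.hom_ext _ _))
  let κ := closedMap V
  obtain ⟨r, ⟨ek⟩⟩ := Groth.L06.RootLines.exists_splitRank (Groth.L25.Locus.isTorus_bc hT κ)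
    (Groth.L08.Borel.isSplit_bc κ ⟨eV⟩)
  obtain ⟨eM⟩ := Groth.L08.Borel.isSplit_bc κ (T := T) ⟨eV⟩
  obtain ⟨g⟩ := Groth.L25.TorLift.addEquiv_of_ds (eM.symm ≪≫ ek)
  exact ⟨r, ⟨eV ≪≫ Groth.L25.TorLift.dsCongr _ g⟩⟩

/-- **maximal tori over strictly henselian rings** -/
theorem exists_maxTorus_strict [IsSeparated G.hom] (hT : SGA3x.HasMaxTorusFpqcLocally G)
    (b : Spec (CommRingCat.of V) ⟶ S) :
    ∃ (r : ℕ) (i : Red.DS (Spec (CommRingCat.of V)) (Fin r → ℤ) ⟶ Red.bc b G), Red.IsMaximalTorus i := by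
  obtain ⟨B, v, hv, hvs, T, gT, iT, hiT⟩ := Groth.L08.Borel.maxTorus_etale_of_fpqc hT
  haveI := hv; haveI := hvs
  obtain ⟨p, hp⟩ := v.surjective (b (IsLocalRing.closedPoint V))
  obtain ⟨c, hc⟩ := exists_etale_section v b (p := p) hp
  haveI : Smooth (Red.bc v G).hom := inferInstanceAs (Smooth (pullback.snd G.hom v))
  haveI : QuasiCompact (Red.bc v G).hom := inferInstanceAs (QuasiCompact (pullback.snd G.hom v))
  have h1 := Groth.L08.Borel.isMaximalTorus_bc hiT c
  haveI := h1.1; haveI := h1.2.1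
  haveI := isMonHom_cmp hc G
  have h2 := Groth.L08.Borel.isMaximalTorus_comp_iso h1 (cmp hc G)
  obtain ⟨r, ⟨e⟩⟩ := exists_split_torus_local h1.2.2.1
  haveI : Smooth (Red.bc b G).hom := inferInstanceAs (Smooth (pullback.snd G.hom b))
  haveI : QuasiCompact (Red.bc b G).hom := inferInstanceAs (QuasiCompact (pullback.snd G.hom b))
  haveI := h2.1
  let eT : Red.DS (Spec (CommRingCat.of V)) (Fin r → ℤ) ≅ (Over.pullback c).obj T :=
    ⟨e.inv.hom.hom, e.hom.hom.hom, congrArg (fun f => f.hom.hom) e.inv_hom_id,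
      congrArg (fun f => f.hom.hom) e.hom_inv_id⟩
  haveI : IsMonHom eT.hom := e.inv.hom.isMonHom_hom
  exact ⟨r, _, isMaximalTorus_iso_comp eT h2 (Groth.L01.Unip.isTorus_DS _ r)⟩

end Groth.L08.MonoURZ
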