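import Groth.Agent.L08.MonoURZ.Weyl
import Groth.Agent.L08.MonoURZ.Torus
import Groth.Agent.L08.MonoRed.Immersion

/-!
# Monomorphisms out of groups of unipotent rank zero with finite Weyl groups are closed immersions
-/

set_option autoImplicit false
set_option linter.unusedSectionVars false
set_option linter.style.haveILetI false
set_option backward.isDefEq.respectTransparency.types false
set_option maxHeartbeats 1000000
set_option linter.deprecated false

universe u

open CategoryTheory CategoryTheory.Limits MonoidalCategory CartesianMonoidalCategory MonObj GrpObj AlgebraicGeometry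
open Groth.L25.SplitSub (bcDS bcHom isMonHom_bcHom)
open Groth.L25.LimHom (cmp isMonHom_cmp isMonHom_cmp_inv)
open Groth.L08.MonoRed IsLocalRing

noncomputable section

namespace Groth.L08.MonoURZ

variable {S : Scheme.{u}} {G H : Over S} [GrpObj G] [GrpObj H] [Smooth G.hom] [QuasiCompact G.hom]

/-- self-centralisation at the generic point of a base change -/
theorem selfCentral_bc (hu0 : SGA3x.UnipotentRankZero G) {B : Scheme.{u}} (b : B ⟶ S) {L : Type u} [Field L]
    [IsAlgClosed L] (ξ : Spec (CommRingCat.of L) ⟶ B) {T : Over (Spec (CommRingCat.of L))} [GrpObj T]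
    {i : T ⟶ Red.bc ξ (Red.bc b G)} (hi : AGF.IsMaxTorus i) : Red.IsCentralizerOf i i := by
  haveI := hi.1
  haveI := isMonHom_cmp (b := ξ) (a := b) rfl G
  haveI := isMonHom_cmp_inv (b := ξ) (a := b) rfl G
  let e := cmp (b := ξ) (a := b) rfl G
  haveI : IsMonHom e.symm.hom := ‹IsMonHom e.inv›
  have h := selfCentral_geom hu0 (ξ ≫ b) (Groth.L08.Borel.isMaxTorus_comp_iso hi e)
  exact Groth.L08.Borel.isCentralizerOf_transport e.symm (Iso.refl T)
    (show (Iso.refl T).hom ≫ (i ≫ e.hom) ≫ e.inv = i by simp) (Iso.refl T)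
    (show (Iso.refl T).hom ≫ (i ≫ e.hom) ≫ e.inv = i by simp) h

variable [IsSeparated H.hom] [LocallyOfFiniteType H.hom] [QuasiCompact H.hom] (hu0 : SGA3x.UnipotentRankZero G)
  (hT : SGA3x.HasMaxTorusFpqcLocally G) (u : G ⟶ H) [IsMonHom u] [Mono u]
  (hW : ∀ (S' : Scheme.{u}) (f : S' ⟶ S) (T : Over S') [GrpObj T] (i : T ⟶ Red.bc f G), Red.IsMaximalTorus i →
    ∃ (N C W : Over S') (_ : GrpObj N) (_ : GrpObj C) (_ : GrpObj W) (n : N ⟶ Red.bc f G) (c : C ⟶ N) (q : N ⟶ W),
      Red.IsNormalizerOf i n ∧ Red.IsCentralizerOf i (c ≫ n) ∧ IsMonHom q ∧ Surjective q.left ∧ Flat q.left ∧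
      AlgGrp.IsKernel c q ∧ IsFinite W.hom)

omit [Smooth G.hom] [QuasiCompact G.hom] [LocallyOfFiniteType H.hom] [QuasiCompact H.hom] in
/-- the source is separated -/
theorem isSeparated_source (u : G ⟶ H) [Mono u] : IsSeparated G.hom := by
  haveI : Mono u.left := inferInstanceAs (Mono ((Over.forget _).map u))
  rw [← Over.w u]
  infer_instance

include hu0 hT hW in
/-- **valuation rings with algebraically closed fraction field lift** -/
theorem exists_fac {V : Type u} [CommRing V] [IsDomain V] [ValuationRing V] {K : Type u} [Field K] [IsAlgClosed K]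
    [Algebra V K] [IsFractionRing V K] (c : Spec (CommRingCat.of V) ⟶ H.left)
    (g : Spec (CommRingCat.of K) ⟶ G.left) (hg : g ≫ u.left = baseMap V K ≫ c) :
    ∃ γ : Spec (CommRingCat.of V) ⟶ G.left, γ ≫ u.left = c := by
  haveI : HenselianLocalRing V := Groth.L27.NormalSepClosed.henselianLocalRing (R := V) K
  haveI : IsAlgClosed (ResidueField V) := isAlgClosed_residue (V := V) (K := K)
  haveI := isSeparated_source u
  let b := c ≫ H.hom
  let ξ := baseMap V K
  haveI : Smooth (Red.bc b G).hom := inferInstanceAs (Smooth (pullback.snd G.hom b))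
  haveI : QuasiCompact (Red.bc b G).hom := inferInstanceAs (QuasiCompact (pullback.snd G.hom b))
  haveI : IsSeparated (Red.bc b G).hom := inferInstanceAs (IsSeparated (pullback.snd G.hom b))
  haveI : LocallyOfFiniteType (Red.bc b H).hom := inferInstanceAs (LocallyOfFiniteType (pullback.snd H.hom b))
  haveI : QuasiCompact (Red.bc b H).hom := inferInstanceAs (QuasiCompact (pullback.snd H.hom b))
  haveI : IsMonHom ((Over.pullback b).map u) := Groth.L25.MonoClosed.isMonHom_pullbackMap _ _
  obtain ⟨r, i, hi⟩ := exists_maxTorus_strict hT b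
  haveI := hi.1; haveI := hi.2.1
  obtain ⟨N, C, W, _, _, _, nn, cc, q, hN, hCn, hq, hqs, hqf, hker, hWf⟩ := hW _ b _ i hi
  haveI := hq; haveI := hqs; haveI := hqf; haveI := hWf
  have hCK := selfCentral_bc hu0 b ξ (isMaxTorus_bcHom i hi ξ)
  have hgb : g ≫ G.hom = ξ ≫ c ≫ H.hom := by rw [← Over.w u, reassoc_of% hg]
  have hgh := upPt₂_map b ξ u g hgb c rfl hg
  obtain ⟨γ, hγ⟩ := exists_integral_point i (isMaxTorus_bcHom i hi (closedMap V))
    (fun n θ _ h => exists_normalizing i hN hCn hker hCK n θ h) ((Over.pullback b).map u) _ _ hgh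
  have hγu : bcPt ξ (γ ≫ (Over.pullback b).map u) = bcPt ξ (upPt b c rfl) := by rw [← bcPt_comp, hγ, hgh]
  haveI := isDominant_baseMap (V := V) (K := K)
  let γ' : Spec (CommRingCat.of V) ⟶ G.left := γ.left ≫ pullback.fst G.hom b
  refine ⟨γ', ?_⟩
  have h1 : ξ ≫ γ' ≫ u.left = ξ ≫ c := by
    have := congrArg (fun z => z.left ≫ pullback.fst (Red.bc b H).hom ξ ≫ pullback.fst H.hom b) hγu
    simp only [← Category.assoc, bcPt_left] at this
    simpa only [γ', Category.assoc, upPt_left, Over.comp_left, Over.pullback_map_left, pullback.lift_fst] using this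
  have hwG : γ' ≫ G.hom = b := by
    rw [Category.assoc, pullback.condition, ← Category.assoc]
    exact (congrArg (· ≫ b) (Over.w γ)).trans (Category.id_comp _)
  exact ext_of_isDominant_of_isSeparated H.hom (by rw [Category.assoc, Over.w u, hwG]) ξ h1

include hu0 hT hW in
/-- **the monomorphism is a closed immersion** -/
theorem isClosedImmersion : IsClosedImmersion u.left := by
  haveI := isSeparated_source u
  haveI : Mono u.left := inferInstanceAs (Mono ((Over.forget _).map u))
  haveI : QuasiCompact (u.left ≫ H.hom) := by rw [Over.w u]; infer_instance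
  haveI : QuasiCompact u.left := QuasiCompact.of_comp u.left H.hom
  haveI : LocallyOfFiniteType (u.left ≫ H.hom) := by rw [Over.w u]; infer_instance
  haveI : LocallyOfFiniteType u.left := locallyOfFiniteType_of_comp u.left H.hom
  have hex : ValuativeCriterion.Existence u.left := fun sq => by
    obtain ⟨Ω, _, _, _, V, j, -, hjf, hjs, hjr, -⟩ := exists_extension sq.R sq.K
    let J := Spec.map (CommRingCat.ofHom j)
    haveI : Flat J := hjf
    haveI : Surjective J := hjs
    let θ := Spec.map (CommRingCat.ofHom (algebraMap sq.K Ω))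
    have hθ : baseMap V Ω ≫ J ≫ sq.i₂ = (θ ≫ sq.i₁) ≫ u.left := by
      rw [Category.assoc, sq.commSq.w, ← Category.assoc, ← Category.assoc, ← Spec.map_comp, ← Spec.map_comp]
      congr 2
      exact CommRingCat.hom_ext (RingHom.ext hjr)
    obtain ⟨γ, hγ⟩ := exists_fac hu0 hT u hW (K := Ω) (J ≫ sq.i₂) (θ ≫ sq.i₁) hθ.symm
    let l := EffectiveEpi.desc J γ fun g₁ g₂ hg => by
      rw [← cancel_mono u.left, Category.assoc, Category.assoc, hγ, reassoc_of% hg]
    have hl : l ≫ u.left = sq.i₂ := by
      rw [← cancel_epi J, EffectiveEpi.fac_assoc, hγ]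
    refine ⟨⟨⟨l, ?_, hl⟩⟩⟩
    rw [← cancel_mono u.left, Category.assoc, hl, sq.commSq.w]
  haveI : UniversallyClosed u.left := UniversallyClosed.of_valuativeCriterion _ hex
  haveI : IsProper u.left := ⟨⟩
  exact (IsClosedImmersion.iff_isProper_and_mono u.left).2 ⟨inferInstance, inferInstance⟩

end Groth.L08.MonoURZ
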