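import Groth.Agent.L25.MonoClosed.Main

/-!
# Integrality of torus points when the target is not quasi-compact

The criterion of `Groth.L25.MonoClosed` only needs a quasi-compact open containing the powers of the closed end.
-/

set_option autoImplicit false
universe u

open CategoryTheory CategoryTheory.Limits MonoidalCategory CartesianMonoidalCategory
open AlgebraicGeometry Opposite
open scoped MonObj

set_option backward.isDefEq.respectTransparency.types false
set_option linter.style.haveILetI false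

noncomputable section

namespace Groth.L25.MonoClosed

open Cocycle SplitSub

section

variable {S : Scheme.{u}}
variable {R K : Type u} [CommRing R] [IsDomain R] [ValuationRing R] [Field K] [Algebra R K] [IsFractionRing R K]
variable {b : Spec (CommRingCat.of R) ⟶ S} {M : Type} [AddCommGroup M] [UniqueProds (Multiplicative M)]
  {G : Over S} [GrpObj G] {u : Red.DS S M ⟶ G} [IsMonHom u] {x : X b R ⟶ G}

/-- the criterion with a quasi-compact open -/
theorem eq_one_of_point' [LocallyOfFiniteType G.hom] [Mono u] (U : G.left.Opens) (hU : IsCompact (U : Set G.left))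
    (hz : ∀ n, (res b x (IsLocalRing.ResidueField R) ^ n).left (IsLocalRing.closedPoint _) ∈ U) (χ : Multiplicative M →* K)
    (hχ : ∀ m, ValuationRing.valuation R K (χ m) = 1 → m = 1)
    (hx : mor b (Algebra.ofId R K) ≫ x = imgPt b u χ) :
    ∀ m : Multiplicative M, m = 1 := by
  classical
  let B := MonoidAlgebra R (Multiplicative M)
  let k := IsLocalRing.ResidueField R
  obtain ⟨t, ht⟩ : ∃ t : Finset G.left.affineOpens,
      (∀ W ∈ t, ∃ V : S.Opens, IsAffineOpen V ∧ W.1 ≤ G.hom ⁻¹ᵁ V) ∧ ∀ z ∈ U, ∃ W ∈ t, z ∈ W.1 := by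
    choose W hW hzW V hV hWle using fun z : G.left =>
      show ∃ W : G.left.Opens, IsAffineOpen W ∧ z ∈ W ∧ ∃ V : S.Opens, IsAffineOpen V ∧ W ≤ G.hom ⁻¹ᵁ V by
        obtain ⟨_, ⟨V, hV, rfl⟩, hzV, -⟩ :=
          S.isBasis_affineOpens.exists_subset_of_mem_open (Set.mem_univ (G.hom z)) isOpen_univ
        obtain ⟨_, ⟨W, hW, rfl⟩, hz, hle⟩ :=
          G.left.isBasis_affineOpens.exists_subset_of_mem_open (show z ∈ G.hom ⁻¹ᵁ V from hzV) (G.hom ⁻¹ᵁ V).2
        exact ⟨W, hW, hz, V, hV, hle⟩
    obtain ⟨t, ht⟩ := hU.elim_finite_subcover (fun z => (W z : Set G.left)) (fun z => (W z).2)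
      (fun z _ => Set.mem_iUnion.2 ⟨z, hzW z⟩)
    refine ⟨t.image fun z => ⟨W z, hW z⟩, fun A hA => ?_, fun z hz => ?_⟩
    · obtain ⟨w, -, rfl⟩ := Finset.mem_image.1 hA
      exact ⟨V w, hV w, hWle w⟩
    · obtain ⟨w, hw, hzw⟩ := Set.mem_iUnion₂.1 (ht hz)
      exact ⟨_, Finset.mem_image_of_mem _ hw, hzw⟩
  obtain ⟨htV, htz⟩ := ht
  -- the unit point of the special fibre
  let ε : B →ₐ[R] k := MonoidAlgebra.lift R k (Multiplicative M) 1
  have hεeq : ∀ g : B, ε g = MonoidAlgebra.lift k k (Multiplicative M) 1 (red g) := by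
    intro g
    induction g using MonoidAlgebra.induction_linear with
    | zero => simp
    | add p q hp hq => rw [map_add, map_add, map_add, hp, hq]
    | single m c =>
      rw [show ε (MonoidAlgebra.single m c) = c • (1 : k) from MonoidAlgebra.lift_single _ _ _, Algebra.smul_def,
        _root_.mul_one]
      show _ = MonoidAlgebra.lift k k (Multiplicative M) 1 (MonoidAlgebra.mapRingHom _ (IsLocalRing.residue R) _)
      rw [MonoidAlgebra.mapRingHom_single, MonoidAlgebra.lift_single, MonoidHom.one_apply, smul_eq_mul,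
        _root_.mul_one]
      rfl
  let z : Spec (CommRingCat.of B) := (mor b ε).left (IsLocalRing.closedPoint k)
  have hz₀ : ∀ n, (univPt b u x n).left z ∈ U := by
    intro n
    show (mor b ε ≫ univPt b u x n).left (IsLocalRing.closedPoint k) ∈ U
    have e1 : (ε : B →* k).comp (MonoidAlgebra.of R (Multiplicative M)) = 1 :=
      MonoidHom.ext fun m => MonoidAlgebra.lift_of _ m
    have e2 : imgPt b u (1 : Multiplicative M →* k) = 1 := by
      have h := imgPt_mul (b := b) (u := u) (1 : Multiplicative M →* k) 1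
      rwa [_root_.one_mul, left_eq_mul] at h
    rw [univPt_nat, e1, e2, _root_.mul_one]
    exact hz n
  choose Wn hWn hzn using fun n => htz _ (hz₀ n)
  obtain ⟨W, hWinf⟩ : ∃ W, ({n | Wn n = W} : Set ℕ).Infinite := by
    obtain ⟨⟨W, hW⟩, hWinf⟩ := Finite.exists_infinite_fiber (fun n => (⟨Wn n, hWn n⟩ : t))
    exact ⟨W, (Set.infinite_coe_iff.1 hWinf).mono fun n (hn : (⟨Wn n, hWn n⟩ : t) = ⟨W, hW⟩) => congrArg Subtype.val hn⟩
  obtain ⟨n₀, hn₀⟩ := hWinf.nonempty
  obtain ⟨V, hV, hWV⟩ := htV W (hn₀ ▸ hWn n₀)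
  have chart : ∀ n, Wn n = W → ∃ c : LocCoord b u x W.2 n, red c.g ≠ 0 := by
    intro n hn
    obtain ⟨c, hc⟩ := exists_locCoord W.2 n z (hn ▸ hzn n)
    refine ⟨c, fun h0 => hc ?_⟩
    show ε c.g ∈ IsLocalRing.maximalIdeal k
    rw [hεeq, h0, map_zero]
    exact zero_mem _
  obtain ⟨c₀, hc₀⟩ := chart n₀ hn₀
  have hg₀ : c₀.g ≠ 0 := fun h0 => hc₀ (by rw [h0, map_zero])
  choose E hE hbad using exists_bad χ hχ hx W.2 c₀ hg₀
  have hft : (G.hom.appLE V W.1 hWV).hom.FiniteType := G.hom.finiteType_appLE hV W.2 hWV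
  obtain ⟨gens, hgens⟩ : ∃ gens : Finset Γ(G.left, W.1), Subring.closure
      (Set.range (G.hom.appLE V W.1 hWV).hom ∪ (gens : Set Γ(G.left, W.1))) = ⊤ := by
    letI := (G.hom.appLE V W.1 hWV).hom.toAlgebra
    obtain ⟨gens, h⟩ := (hft : Algebra.FiniteType Γ(S, V) Γ(G.left, W.1)).out
    refine ⟨gens, ?_⟩
    have h2 := Algebra.adjoin_eq_ring_closure (R := Γ(S, V)) (gens : Set Γ(G.left, W.1))
    rw [h, Algebra.top_toSubring] at h2
    exact h2.symm
  obtain ⟨n, hn, hnB⟩ := (hWinf.sdiff ((Set.finite_lt_nat n₀).union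
    ((gens.finite_toSet.biUnion fun a _ => hE a).image fun d => n₀ + d))).nonempty
  obtain ⟨d, rfl⟩ := Nat.exists_eq_add_of_le (le_of_not_gt fun h : n < n₀ => hnB (Or.inl h))
  obtain ⟨c, hc⟩ := chart (n₀ + d) hn
  -- two generic points of the special fibre
  let NN := Multiplicative M × Multiplicative M
  let L := FractionRing (MonoidAlgebra k NN)
  let emb : (Multiplicative M →* NN) → (MonoidAlgebra k (Multiplicative M) →+* L) := fun j =>
    (algebraMap _ L).comp (MonoidAlgebra.mapDomainRingHom k j)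
  let ψ : (Multiplicative M →* NN) → (B →ₐ[R] L) := fun j => MonoidAlgebra.lift R L (Multiplicative M)
    ((algebraMap (MonoidAlgebra k NN) L : MonoidAlgebra k NN →* L).comp ((MonoidAlgebra.of k NN).comp j))
  have hψ : ∀ j p, ψ j p = emb j (red p) := by
    intro j p
    induction p using MonoidAlgebra.induction_linear with
    | zero => simp
    | add p q hp hq => rw [map_add, map_add, map_add, hp, hq]
    | single m r =>
      rw [show ψ j (MonoidAlgebra.single m r) = r • algebraMap (MonoidAlgebra k NN) L (MonoidAlgebra.single (j m) 1)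
        from MonoidAlgebra.lift_single _ _ _, Algebra.smul_def,
        IsScalarTower.algebraMap_apply R (MonoidAlgebra k NN) L, ← map_mul]
      show _ = algebraMap (MonoidAlgebra k NN) L (MonoidAlgebra.mapDomainRingHom k j
        (MonoidAlgebra.mapRingHom _ (IsLocalRing.residue R) _))
      rw [MonoidAlgebra.mapRingHom_single, MonoidAlgebra.mapDomainRingHom_apply, MonoidAlgebra.mapDomain_single,
        MonoidAlgebra.coe_algebraMap, Function.comp_apply, MonoidAlgebra.single_mul_single, _root_.one_mul,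
        _root_.mul_one]
      rfl
  have hunit : ∀ j : Multiplicative M →* NN, Function.Injective j → IsUnit (ψ j c.g) := fun j hj =>
    isUnit_iff_ne_zero.2 fun h0 => hc (MonoidAlgebra.mapDomain_injective hj
      ((IsFractionRing.injective _ L ((hψ j c.g).symm.trans (h0.trans (map_zero _).symm))).trans
        (map_zero (MonoidAlgebra.mapDomainRingHom k j)).symm))
  let θ : ∀ j : Multiplicative M →* NN, Function.Injective j → (Localization.Away c.g →+* L) := fun j hj =>
    Localization.awayLift (ψ j).toRingHom c.g (hunit j hj)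
  have hθ : ∀ j hj q, θ j hj (algebraMap B _ q) = ψ j q := fun j hj q => IsLocalization.Away.lift_eq c.g _ q
  have hpt : ∀ j hj, Spec.map (c.f ≫ CommRingCat.ofHom (θ j hj)) ≫ W.2.fromSpec =
      (mor b (ψ j) ≫ univPt b u x (n₀ + d)).left := by
    intro j hj
    rw [Spec.map_comp, Category.assoc, c.fac, ← Category.assoc, ← Spec.map_comp, Over.comp_left,
      ← CommRingCat.ofHom_comp]
    exact congrArg (fun r => Spec.map (CommRingCat.ofHom r) ≫ (univPt b u x (n₀ + d)).left) (RingHom.ext (hθ j hj))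
  have hi₁ : Function.Injective (MonoidHom.inl (Multiplicative M) (Multiplicative M)) :=
    fun a b h => congrArg Prod.fst h
  have hi₂ : Function.Injective (MonoidHom.inr (Multiplicative M) (Multiplicative M)) :=
    fun a b h => congrArg Prod.snd h
  have hbase : G.hom.appLE V W.1 hWV ≫ c.f ≫ CommRingCat.ofHom (θ _ hi₁) =
      G.hom.appLE V W.1 hWV ≫ c.f ≫ CommRingCat.ofHom (θ _ hi₂) := by
    apply Spec.map_injective
    rw [← cancel_mono hV.fromSpec]
    have e : ∀ j hj, Spec.map (G.hom.appLE V W.1 hWV ≫ c.f ≫ CommRingCat.ofHom (θ j hj)) ≫ hV.fromSpec =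
        (X b L).hom := by
      intro j hj
      rw [Spec.map_comp, Category.assoc, IsAffineOpen.SpecMap_appLE_fromSpec _ hV W.2 hWV, ← Category.assoc, hpt j hj]
      exact Over.w _
    rw [e _ hi₁, e _ hi₂]
  have hall : c.f ≫ CommRingCat.ofHom (θ _ hi₁) = c.f ≫ CommRingCat.ofHom (θ _ hi₂) := by
    apply CommRingCat.hom_ext
    refine RingHom.ext fun a => ?_
    have hle : Subring.closure (Set.range (G.hom.appLE V W.1 hWV).hom ∪ (gens : Set Γ(G.left, W.1))) ≤
        RingHom.eqLocus (c.f ≫ CommRingCat.ofHom (θ _ hi₁)).hom (c.f ≫ CommRingCat.ofHom (θ _ hi₂)).hom := by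
      rw [Subring.closure_le]
      rintro y (⟨y, rfl⟩ | hy)
      · exact congrArg (fun q => q.hom y) hbase
      · obtain ⟨r, l, p, hp, hr⟩ := hbad y d (fun hh => hnB (Or.inr ⟨d, Set.mem_biUnion hy hh, rfl⟩)) c hc
        have e : ∀ j hj, θ j hj (c.f y) = algebraMap (MonoidAlgebra k NN) L (MonoidAlgebra.single 1 r) := by
          intro j hj
          have h1 := congrArg (θ j hj) hp
          rw [map_mul, map_pow, hθ j hj, hθ j hj, hψ j p, hr, ← map_pow (ψ j), hψ j (c.g ^ l)] at h1
          have hc' : ∀ w, emb j (r • w) =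
              algebraMap (MonoidAlgebra k NN) L (MonoidAlgebra.single 1 r) * emb j w := by
            intro w
            rw [Algebra.smul_def, map_mul]
            congr 1
            simp [emb, MonoidAlgebra.coe_algebraMap]
            rfl
          rw [hc'] at h1
          refine mul_right_cancel₀ ?_ h1
          rw [← hψ, map_pow]
          exact pow_ne_zero _ (hunit j hj).ne_zero
        exact (e _ hi₁).trans (e _ hi₂).symm
    exact hle (hgens.ge (Subring.mem_top a))
  have heq : mor b (ψ (MonoidHom.inl _ _)) ≫ univPt b u x (n₀ + d) =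
      mor b (ψ (MonoidHom.inr _ _)) ≫ univPt b u x (n₀ + d) :=
    Over.OverMorphism.ext (by rw [← hpt _ hi₁, ← hpt _ hi₂, hall])
  rw [univPt_nat, univPt_nat] at heq
  have hχeq := ((stdChart b M).bij L).1 ((cancel_mono u).1 (mul_left_cancel heq))
  intro m
  have h1 := DFunLike.congr_fun hχeq m
  simp only [MonoidHom.comp_apply, MonoidHom.coe_coe, ψ, MonoidAlgebra.lift_of] at h1
  have h2 := IsFractionRing.injective (MonoidAlgebra k NN) L h1
  simp only [MonoidAlgebra.of_apply] at h2
  exact congrArg Prod.fst (MonoidAlgebra.single_left_injective (one_ne_zero (α := k)) h2)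

end

variable {S : Scheme.{u}} {R K : Type u} [CommRing R] [IsDomain R] [ValuationRing R] [Field K] [Algebra R K]
  [IsFractionRing R K]

/-- the generic character of an integral point in the image of a monomorphism is integral -/
theorem val_eq_one' {b : Spec (CommRingCat.of R) ⟶ S} {M : Type} [AddCommGroup M] [hM : Module.Finite ℤ M]
    {G : Over S} [GrpObj G] [LocallyOfFiniteType G.hom] (U : G.left.Opens) (hU : IsCompact (U : Set G.left))
    {u : Red.DS S M ⟶ G} [IsMonHom u] [Mono u] (χ : Multiplicative M →* K) {x : X b R ⟶ G}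
    (hx : mor b (Algebra.ofId R K) ≫ x = imgPt b u χ) (hUu : Set.range u.left ⊆ (U : Set G.left))
    (χk : Multiplicative M →* IsLocalRing.ResidueField R) (hxk : res b x _ = imgPt b u χk) :
    ∀ m, ValuationRing.valuation R K (χ m) = 1 := by
  classical
  let v := ValuationRing.valuation R K
  have hχ0 : ∀ m, v (χ m) ≠ 0 := fun m => v.ne_zero_iff.2 ((Group.isUnit m).map χ).ne_zero
  let M₀ : Submodule ℤ M := AddSubgroup.toIntSubmodule
    { carrier := {m | v (χ (Multiplicative.ofAdd m)) = 1}
      zero_mem' := by simp [v]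
      add_mem' := fun {a c} ha hc => by
        show v (χ (Multiplicative.ofAdd (a + c))) = 1
        rw [ofAdd_add, map_mul, map_mul, ha, hc, _root_.one_mul]
      neg_mem' := fun {a} ha => by
        show v (χ (Multiplicative.ofAdd (-a))) = 1
        have h : v (χ (Multiplicative.ofAdd (-a))) * v (χ (Multiplicative.ofAdd a)) = 1 := by
          rw [← map_mul, ← map_mul, ← ofAdd_add, neg_add_cancel, ofAdd_zero, map_one, map_one]
        rw [ha, _root_.mul_one] at h
        exact h }
  have hmem : ∀ m, m ∈ M₀ ↔ v (χ (Multiplicative.ofAdd m)) = 1 := fun m => Iff.rfl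
  have hsat : ∀ (n : ℤ) (m : M), n ≠ 0 → n • m ∈ M₀ → m ∈ M₀ := by
    intro n m hn hm
    have key : ∀ k : ℕ, k ≠ 0 → k • m ∈ M₀ → m ∈ M₀ := by
      intro k hk h
      rw [hmem, ofAdd_nsmul, map_pow, map_pow] at h
      exact (hmem m).2 ((pow_eq_one_iff_of_nonneg zero_le' hk).1 h)
    rcases Int.natAbs_eq n with h | h
    · exact key n.natAbs (by omega) (by rwa [← natCast_zsmul, ← h])
    · exact key n.natAbs (by omega) (by rw [← natCast_zsmul, show (n.natAbs : ℤ) = -n by omega, neg_smul]; exact M₀.neg_mem hm)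
  have : Module.IsTorsionFree ℤ (M ⧸ M₀) := Module.IsTorsionFree.of_smul_eq_zero fun n q h => by
    obtain ⟨m, rfl⟩ := Submodule.Quotient.mk_surjective _ q
    by_cases hn : n = 0
    · exact Or.inl hn
    · rw [← Submodule.Quotient.mk_smul, Submodule.Quotient.mk_eq_zero] at h
      exact Or.inr ((Submodule.Quotient.mk_eq_zero _).2 (hsat n m hn h))
  obtain ⟨r, e⟩ : ∃ r : ℕ, Nonempty ((M ⧸ M₀) ≃ₗ[ℤ] (Fin r → ℤ)) :=
    ⟨_, ⟨(Module.finBasis ℤ (M ⧸ M₀)).equivFun⟩⟩
  obtain ⟨e⟩ := e
  let q : M →ₗ[ℤ] (Fin r → ℤ) := e.toLinearMap ∘ₗ M₀.mkQ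
  have hq : Function.Surjective q := e.surjective.comp M₀.mkQ_surjective
  obtain ⟨s, hs⟩ := Module.projective_lifting_property q LinearMap.id hq
  have hsq : ∀ y, q (s y) = y := fun y => DFunLike.congr_fun hs y
  have hker : ∀ m, m - s (q m) ∈ M₀ := fun m => by
    have : q (m - s (q m)) = 0 := by rw [map_sub, hsq, sub_self]
    exact (Submodule.Quotient.mk_eq_zero M₀).1 (e.injective (this.trans (map_zero e).symm))
  let χ₁ : Multiplicative (Fin r → ℤ) →* K := χ.comp (AddMonoidHom.toMultiplicative s.toAddMonoidHom)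
  let δ : M →+ M := (-AddMonoidHom.id M) + (s.comp q).toAddMonoidHom
  have hδ : ∀ m, δ m = -(m - s (q m)) := fun m => by simp [δ]; abel
  have hδv : ∀ m, v (χ (Multiplicative.ofAdd (δ m))) = 1 := fun m => by
    rw [← hmem, hδ]
    exact M₀.neg_mem (hker m)
  choose c hc using fun m : Multiplicative M =>
    (integers (R := R) (K := K)).exists_of_le_one (le_of_eq (hδv m.toAdd))
  let χ₀ : Multiplicative M →* R :=
    { toFun := c
      map_one' := IsFractionRing.injective R K (by
        rw [hc, toAdd_one, map_zero δ, ofAdd_zero, map_one χ, map_one (algebraMap R K)])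
      map_mul' := fun a d => IsFractionRing.injective R K (by
        rw [map_mul, hc, hc, hc, toAdd_mul, map_add, ofAdd_add, map_mul]) }
  let u' : Red.DS S (Fin r → ℤ) ⟶ G := Red.DSmap S q.toAddMonoidHom ≫ u
  have : IsMonHom (Red.DSmap S q.toAddMonoidHom) := inferInstance
  have : IsMonHom u' := isMonHom_comp' inferInstance inferInstance
  have : Mono (Red.DSmap S q.toAddMonoidHom) := mono_DSmap _ hq
  have : Mono u' := mono_comp _ _
  have hx' : mor b (Algebra.ofId R K) ≫ (imgPt b u χ₀ * x) = imgPt b u' χ₁ := by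
    rw [MonObj.comp_mul, imgPt_nat, hx, ← imgPt_mul]
    show _ = (stdChart b (Fin r → ℤ)).pt χ₁ ≫ Red.DSmap S q.toAddMonoidHom ≫ u
    rw [← Category.assoc, stdChart_pt_DSmap]
    refine congrArg (fun k => imgPt b u k) (MonoidHom.ext fun m => ?_)
    show algebraMap R K (c m) * χ m = χ (Multiplicative.ofAdd (s (q m.toAdd)))
    rw [hc, ← map_mul]
    congr 1
    show Multiplicative.ofAdd (δ m.toAdd + m.toAdd) = _
    rw [hδ]
    congr 1
    abel
  have hall := eq_one_of_point' (u := u') U hU (fun n => hUu ?_) χ₁ (fun y hy => by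
    have h1 : s y.toAdd ∈ M₀ := (hmem _).2 hy
    have h2 : q (s y.toAdd) = 0 := by
      show e (M₀.mkQ (s y.toAdd)) = 0
      rw [Submodule.mkQ_apply, (Submodule.Quotient.mk_eq_zero M₀).2 h1, map_zero]
    rw [hsq] at h2
    exact h2) hx'
  rotate_left
  · have e : res b (imgPt b u χ₀ * x) (IsLocalRing.ResidueField R) =
        imgPt b u ((IsLocalRing.residue R : R →* _).comp χ₀ * χk) := by
      rw [res, MonObj.comp_mul, imgPt_nat, ← res, hxk, ← imgPt_mul]
      rfl
    rw [e, ← imgPt_pow]
    exact ⟨_, rfl⟩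
  intro m
  have h2 : q m.toAdd = 0 := hall (Multiplicative.ofAdd (q m.toAdd))
  have h3 := hker m.toAdd
  rw [h2, map_zero, sub_zero] at h3
  exact (hmem _).1 h3

end Groth.L25.MonoClosed
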