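import Groth.Agent.L08.MonoURZ.CoreGen
import Groth.Agent.L08.MonoURZ.TorusQC
import Groth.Agent.L08.MonoRed.Unique
import Groth.Agent.L08.Borel.CommTorus
import Groth.Agent.S14754

/-!
# Integrality of points with both ends in the image

A generic point whose image under a monomorphism is an integral point with closed end in the image is integral, without
any finiteness of Weyl groups.
-/

set_option autoImplicit false
set_option linter.unusedSectionVars false
set_option linter.style.haveILetI false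
set_option backward.isDefEq.respectTransparency.types false
set_option maxHeartbeats 1000000
set_option linter.deprecated false

universe u

open CategoryTheory CategoryTheory.Limits MonoidalCategory CartesianMonoidalCategory MonObj GrpObj AlgebraicGeometry
open Groth.L25.SplitSub (bcDS bcHom char_bcDS char_DSmap isMonHom_bcHom bcDS_hom_bcHom)
open Groth.L25.NilAction (toBase ofBase toBase_ofBase ofBase_toBase toBase_one)
open Groth.L08.Borel (toBase_comp toBase_map' toBase_injective)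
open Groth.L08.MonoRed

noncomputable section

namespace Groth.L08.MonoURZ

/-- conjugation commutes with homomorphisms -/
theorem conj_comp {S : Scheme.{u}} {X X' Y : Over S} [GrpObj X] [GrpObj X'] (a : 𝟙_ (Over S) ⟶ X) (m : Y ⟶ X)
    (p : X ⟶ X') [IsMonHom p] : AGF.conjBy a m ≫ p = AGF.conjBy (a ≫ p) (m ≫ p) := by
  simp only [AGF.conjBy, MonObj.mul_comp, GrpObj.inv_comp, Category.assoc]

/-- base change of homomorphisms commutes with conjugation -/
theorem bcHom_conj {S P : Scheme.{u}} (j : P ⟶ S) {G : Over S} [GrpObj G] {r : ℕ} (a : 𝟙_ (Over S) ⟶ G)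
    (f : Red.DS S (Fin r → ℤ) ⟶ G) : bcHom j (AGF.conjBy a f) = AGF.conjBy (bcPt j a) (bcHom j f) := by
  rw [bcHom, map_conj, comp_conj]
  rfl

/-- conjugates of homomorphisms are homomorphisms -/
theorem isMonHom_conj {S : Scheme.{u}} {X Y : Over S} [GrpObj X] [GrpObj Y] (a : 𝟙_ (Over S) ⟶ X) (m : Y ⟶ X)
    [IsMonHom m] : IsMonHom (AGF.conjBy a m) := by
  refine Groth.L19.AlgGrpBasic.isMonHom_of_points' _ fun T x y => ?_
  simp only [comp_conj, MonObj.mul_comp, AGF.conjBy]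
  group

/-- conjugates of monomorphisms are monomorphisms -/
theorem mono_conj {S : Scheme.{u}} {X Y : Over S} [GrpObj X] (a : 𝟙_ (Over S) ⟶ X) (m : Y ⟶ X) [Mono m] :
    Mono (AGF.conjBy a m) := by
  refine ⟨fun x y e => ?_⟩
  rw [comp_conj, comp_conj, AGF.conjBy, AGF.conjBy] at e
  exact (cancel_mono m).1 (mul_left_cancel (mul_right_cancel e))

/-- a conjugation on a base change gives a point of the transporter with the same underlying map -/
theorem exists_transporter_point' {S : Scheme.{u}} {G T₁ T₂ : Over S} [GrpObj G] [GrpObj T₁] [GrpObj T₂]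
    {P : Scheme.{u}} (j : P ⟶ S) {i₁ : T₁ ⟶ G} {i₂ : T₂ ⟶ G}
    (g : 𝟙_ (Over P) ⟶ Red.bc j G) (f : Red.bc j T₁ ≅ Red.bc j T₂)
    (hf : f.hom ≫ (Over.pullback j).map i₂ =
      (toUnit _ ≫ g) * (Over.pullback j).map i₁ * (toUnit _ ≫ g)⁻¹) :
    ∃ x : Over.mk j ⟶ G, x.left = g.left ≫ pullback.fst G.hom j ∧ Groth.L25.Locus.Sends i₁ i₂ (Over.mk j) x ∧
      Groth.L25.Locus.SendsBack i₁ i₂ (Over.mk j) x := by
  let e : Over.mk j ⟶ Over.mk ((𝟙_ (Over P)).hom ≫ j) := Over.homMk (𝟙 _) (by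
    show 𝟙 _ ≫ 𝟙 _ ≫ j = j
    rw [Category.id_comp, Category.id_comp])
  let x : Over.mk j ⟶ G := e ≫ toBase j g
  have hxl : x.left = g.left ≫ pullback.fst G.hom j := Category.id_comp _
  have hx : ∀ (Y : Over P), toBase j (toUnit Y ≫ g) =
      (Over.homMk Y.hom rfl : Over.mk (Y.hom ≫ j) ⟶ Over.mk j) ≫ x := fun Y => by
    apply Over.OverMorphism.ext
    show ((toUnit Y).left ≫ g.left) ≫ _ = Y.hom ≫ x.left
    rw [hxl, show (toUnit Y).left = Y.hom from (Category.comp_id _).symm.trans (Over.w (toUnit Y)), Category.assoc]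
  have s1 := Groth.L08.Borel.exists_sends_of_fibre j (i₁ := i₁) (i₂ := i₂) g f.hom hf x hx
  have hinv : f.inv ≫ (Over.pullback j).map i₁ =
      (toUnit _ ≫ g⁻¹) * (Over.pullback j).map i₂ * (toUnit _ ≫ g⁻¹)⁻¹ := by
    show _ = AGF.conjBy g⁻¹ ((Over.pullback j).map i₂)
    rw [Iso.inv_comp_eq, comp_conj, hf]
    show _ = AGF.conjBy g⁻¹ (AGF.conjBy g ((Over.pullback j).map i₁))
    rw [conj_conj, inv_mul_cancel, conj_one]
  have hx' : ∀ (Y : Over P), toBase j (toUnit Y ≫ g⁻¹) =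
      (Over.homMk Y.hom rfl : Over.mk (Y.hom ≫ j) ⟶ Over.mk j) ≫ x⁻¹ := fun Y => by
    rw [GrpObj.comp_inv, GrpObj.comp_inv, ← hx Y]
    exact eq_inv_of_mul_eq_one_left (by rw [← Groth.L25.NilAction.toBase_mul, inv_mul_cancel, toBase_one])
  have s2' := Groth.L08.Borel.exists_sends_of_fibre j (i₁ := i₂) (i₂ := i₁) g⁻¹ f.inv hinv x⁻¹ hx'
  refine ⟨x, hxl, s1, fun X' t h => ?_⟩
  obtain ⟨h', e'⟩ := s2' X' t h
  refine ⟨h', ?_⟩
  simpa only [GrpObj.comp_inv, _root_.inv_inv] using e'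

variable {V : Type u} [CommRing V] [IsDomain V] [ValuationRing V] [HenselianLocalRing V]
  [IsAlgClosed (IsLocalRing.ResidueField V)] {K : Type u} [Field K] [IsAlgClosed K] [Algebra V K] [IsFractionRing V K]
  {G H : Over (Spec (CommRingCat.of V))} [GrpObj G] [GrpObj H] [Smooth G.hom] [IsSeparated G.hom] [QuasiCompact G.hom]
  {r : ℕ} (i : Red.DS (Spec (CommRingCat.of V)) (Fin r → ℤ) ⟶ G) [IsMonHom i] [Mono i]
  (hTk : AGF.IsMaxTorus (bcHom (closedMap V) i))
  (hcK : Red.IsCentralizerOf (bcHom (baseMap V K) i) (bcHom (baseMap V K) i))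
  (u : G ⟶ H) [IsMonHom u] [Mono u]

omit [IsAlgClosed (IsLocalRing.ResidueField V)] [HenselianLocalRing V] [ValuationRing V] in
/-- endomorphisms of a split torus over a local ring agreeing at the closed point agree -/
theorem eq_of_closed_eq [IsLocalRing V] (ψ ψ' : Red.DS (Spec (CommRingCat.of V)) (Fin r → ℤ) ⟶
      Red.DS (Spec (CommRingCat.of V)) (Fin r → ℤ)) [IsMonHom ψ] [IsMonHom ψ']
    (h : (Over.pullback (closedMap V)).map ψ = (Over.pullback (closedMap V)).map ψ') : ψ = ψ' := by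
  have key : ∀ χ : Red.DS (Spec (CommRingCat.of V)) (Fin r → ℤ) ⟶ Red.DS (Spec (CommRingCat.of V)) (Fin r → ℤ),
      IsMonHom χ → ∃ φ : (Fin r → ℤ) →+ (Fin r → ℤ), χ = Red.DSmap _ φ := fun χ hχ => by
    haveI := hχ
    obtain ⟨U, hU, φ, hφ⟩ := Groth.L25.SplitSub.exists_local_DSmap χ (IsLocalRing.closedPoint V)
    refine ⟨φ, ?_⟩
    have h1 := hφ _ (fun y => ((IsLocalRing.specializes_closedPoint
      ((Red.DS (Spec (CommRingCat.of V)) (Fin r → ℤ)).hom y)).mem_open U.2 hU)) (𝟙 _)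
    rwa [Category.id_comp, Category.id_comp] at h1
  obtain ⟨φ, rfl⟩ := key ψ inferInstance
  obtain ⟨φ', rfl⟩ := key ψ' inferInstance
  have h1 := Groth.L08.Borel.bc_DSmap (closedMap V) φ
  rw [h, Groth.L08.Borel.bc_DSmap, cancel_epi] at h1
  rw [Groth.Agent.S14754.DSmap_injective h1]

/-- integral points of the torus with trivial closed end -/
theorem exists_integral_torus_point_ends [LocallyOfFiniteType H.hom] (v : Red.DS (Spec (CommRingCat.of V)) (Fin r → ℤ) ⟶ H) [IsMonHom v] [Mono v]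
    (t : 𝟙_ (Over (Spec (CommRingCat.of K))) ⟶ Red.DS (Spec (CommRingCat.of K)) (Fin r → ℤ))
    (h₂ : 𝟙_ (Over (Spec (CommRingCat.of V))) ⟶ H) (ht : t ≫ bcHom (baseMap V K) v = bcPt (baseMap V K) h₂)
    (hk : bcPt (closedMap V) h₂ = 1) :
    ∃ τ : 𝟙_ (Over (Spec (CommRingCat.of V))) ⟶ Red.DS (Spec (CommRingCat.of V)) (Fin r → ℤ),
      bcPt (baseMap V K) τ = t ≫ (bcDS (baseMap V K)).inv := by
  let ξ := baseMap V K
  let b : Spec (CommRingCat.of V) ⟶ Spec (CommRingCat.of V) := 𝟙 _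
  let e : Groth.L25.Cocycle.X b K ⟶ Over.mk ((𝟙_ (Over (Spec (CommRingCat.of K)))).hom ≫ ξ) :=
    Over.homMk (𝟙 (Spec (CommRingCat.of K))) (by
      show 𝟙 _ ≫ 𝟙 (Spec (CommRingCat.of K)) ≫ ξ = ξ ≫ 𝟙 _
      rw [Category.id_comp, Category.id_comp, Category.comp_id])
  haveI : IsIso e := by
    haveI : IsIso ((Over.forget _).map e) := inferInstanceAs (IsIso (𝟙 (Spec (CommRingCat.of K))))
    exact isIso_of_reflects_iso e (Over.forget _)
  let tS := toBase ξ (t ≫ (bcDS ξ).inv)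
  obtain ⟨χ, hχ⟩ := ((Groth.L25.SplitSub.stdChart b (Fin r → ℤ)).bij K).2 (e ≫ tS)
  let c : 𝟙_ (Over (Spec (CommRingCat.of V))) ⟶ Groth.L25.Cocycle.X b V :=
    Over.homMk (𝟙 (Spec (CommRingCat.of V))) (by
      show 𝟙 _ ≫ Spec.map (CommRingCat.ofHom (algebraMap V V)) ≫ 𝟙 _ = 𝟙 _
      rw [Algebra.algebraMap_self, CommRingCat.ofHom_id, Spec.map_id, Category.id_comp, Category.id_comp])
  have hu : ∀ {Y : Over (Spec (CommRingCat.of V))} (a : Groth.L25.Cocycle.X b K ⟶ Y)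
      (a' : 𝟙_ (Over (Spec (CommRingCat.of V))) ⟶ Y), a = toUnit _ ≫ a' → a = e ≫ toUnit _ ≫ a' := fun a a' h => by
    rw [h, ← Category.assoc, toUnit_unique (e ≫ toUnit _) (toUnit _)]
  have hx : Groth.L25.Cocycle.mor b (Algebra.ofId V K) ≫ toUnit _ ≫ h₂ = Groth.L25.MonoClosed.imgPt b v χ := by
    rw [Groth.L25.MonoClosed.imgPt, hχ, Category.assoc,
      show tS ≫ v = toBase ξ (t ≫ bcHom ξ v) by rw [← toBase_map', bcHom, Category.assoc], ht, toBase_bcPt]
    exact hu _ h₂ (by rw [← Category.assoc, toUnit_unique (_ ≫ toUnit _) (toUnit _)])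
  let kk := IsLocalRing.ResidueField V
  let ek : Groth.L25.Cocycle.X b kk ⟶ Over.mk ((𝟙_ (Over (Spec (CommRingCat.of kk)))).hom ≫ closedMap V) :=
    Over.homMk (𝟙 (Spec (CommRingCat.of kk))) (by
      show 𝟙 _ ≫ 𝟙 (Spec (CommRingCat.of kk)) ≫ closedMap V = closedMap V ≫ 𝟙 _
      rw [Category.id_comp, Category.id_comp, Category.comp_id])
  have hxk : Groth.L25.MonoClosed.res b (toUnit _ ≫ h₂) kk = Groth.L25.MonoClosed.imgPt b v 1 := by
    have e1 := congrArg (toBase (closedMap V)) hk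
    rw [toBase_bcPt, toBase_one] at e1
    have e2 : Groth.L25.MonoClosed.imgPt b v (1 : Multiplicative (Fin r → ℤ) →* kk) = 1 := by
      have h' := Groth.L25.MonoClosed.imgPt_mul (b := b) (u := v) (1 : Multiplicative (Fin r → ℤ) →* kk) 1
      rwa [_root_.one_mul, left_eq_mul] at h'
    rw [e2, Groth.L25.MonoClosed.res, ← Category.assoc, toUnit_unique (_ ≫ toUnit _) (ek ≫ toUnit _),
      Category.assoc, e1, MonObj.comp_one]
  obtain ⟨U, hU, hUv⟩ : ∃ U : H.left.Opens, IsCompact (U : Set H.left) ∧ Set.range v.left ⊆ (U : Set H.left) := by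
    haveI : IsAffineHom (Red.DS (Spec (CommRingCat.of V)) (Fin r → ℤ)).hom :=
      MorphismProperty.pullback_snd _ _ (inferInstanceAs (IsAffineHom (Spec.map _)))
    haveI : IsAffine (Red.DS (Spec (CommRingCat.of V)) (Fin r → ℤ)).left :=
      isAffine_of_isAffineHom (Red.DS (Spec (CommRingCat.of V)) (Fin r → ℤ)).hom
    obtain ⟨F, hF⟩ := (isCompact_range v.left.continuous).elim_finite_subcover
      (fun W : H.left.affineOpens => ((W : H.left.Opens) : Set H.left)) (fun W => W.1.2) (fun w _ => by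
        obtain ⟨_, ⟨W, hW, rfl⟩, hw, -⟩ :=
          H.left.isBasis_affineOpens.exists_subset_of_mem_open (Set.mem_univ w) isOpen_univ
        exact Set.mem_iUnion.2 ⟨⟨W, hW⟩, hw⟩)
    refine ⟨⨆ W ∈ F, (W : H.left.Opens), ?_, ?_⟩
    · simp only [TopologicalSpace.Opens.coe_iSup]
      exact F.finite_toSet.isCompact_biUnion fun W _ => W.2.isCompact
    · simpa only [TopologicalSpace.Opens.coe_iSup] using hF
  have hv := Groth.L25.MonoClosed.val_eq_one' U hU χ hx hUv 1 hxk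
  choose a ha using fun m => (Groth.L25.MonoClosed.integers (R := V) (K := K)).exists_of_le_one (le_of_eq (hv m))
  let χV : Multiplicative (Fin r → ℤ) →* V :=
    { toFun := a
      map_one' := IsFractionRing.injective V K (by rw [ha, map_one, map_one])
      map_mul' := fun x y => IsFractionRing.injective V K (by rw [map_mul, ha, ha, ha, map_mul]) }
  refine ⟨c ≫ (Groth.L25.SplitSub.stdChart b (Fin r → ℤ)).pt χV, ?_⟩
  refine toBase_injective ξ _ _ ?_
  rw [toBase_bcPt, ← cancel_epi e]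
  refine Eq.trans (hu _ _ rfl).symm ?_
  show _ = e ≫ tS
  rw [← hχ, ← Category.assoc]
  have hc : toUnit _ ≫ c = Groth.L25.Cocycle.mor b (Algebra.ofId V K) := Over.OverMorphism.ext (by
    show (toUnit (Groth.L25.Cocycle.X b K)).left ≫ 𝟙 _ = _
    rw [Category.comp_id, show (toUnit (Groth.L25.Cocycle.X b K)).left = ξ ≫ 𝟙 _ from
      (Category.comp_id _).symm.trans (Over.w (toUnit (Groth.L25.Cocycle.X b K))), Category.comp_id]
    rfl)
  rw [hc, (Groth.L25.SplitSub.stdChart b (Fin r → ℤ)).nat]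
  exact congrArg _ (MonoidHom.ext ha)


include hTk hcK in
/-- **a generic point whose image is integral with closed end in the image is integral** -/
theorem exists_integral_point_ends [LocallyOfFiniteType H.hom]
    (g : 𝟙_ (Over (Spec (CommRingCat.of K))) ⟶ Red.bc (baseMap V K) G)
    (h : 𝟙_ (Over (Spec (CommRingCat.of V))) ⟶ H)
    (hgh : g ≫ (Over.pullback (baseMap V K)).map u = bcPt (baseMap V K) h)
    (x₀ : 𝟙_ (Over (Spec (CommRingCat.of (IsLocalRing.ResidueField V)))) ⟶ Red.bc (closedMap V) G)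
    (hx₀ : x₀ ≫ (Over.pullback (closedMap V)).map u = bcPt (closedMap V) h) :
    ∃ γ, bcPt (baseMap V K) γ = g := by
  let ξ := baseMap V K
  let κ := closedMap V
  haveI hu : IsMonHom ((Over.pullback ξ).map u) := Groth.L25.MonoClosed.isMonHom_pullbackMap _ _
  haveI : Mono ((Over.pullback ξ).map u) := inferInstance
  haveI huk : IsMonHom ((Over.pullback κ).map u) := Groth.L25.MonoClosed.isMonHom_pullbackMap _ _
  haveI : Mono ((Over.pullback κ).map u) := inferInstance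
  haveI : LocallyOfFiniteType G.hom := inferInstance
  haveI : LocallyOfFiniteType (u.left ≫ H.hom) := by rw [Over.w u]; infer_instance
  haveI : LocallyOfFiniteType u.left := locallyOfFiniteType_of_comp u.left H.hom
  haveI := isMonHom_bcHom ξ i
  haveI := isMonHom_bcHom κ i
  haveI : Mono (bcHom ξ i) := inferInstanceAs (Mono ((bcDS ξ).inv ≫ (Over.pullback ξ).map i))
  haveI : Mono (bcHom κ i) := inferInstanceAs (Mono ((bcDS κ).inv ≫ (Over.pullback κ).map i))
  -- the torus over the base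
  let φ := AGF.conjBy g (bcHom ξ i)
  haveI : IsMonHom φ := Groth.L08.Borel.isMonHom_conjBy g (bcHom ξ i)
  let β := AGF.conjBy h (i ≫ u)
  haveI : IsMonHom β := isMonHom_conj h (i ≫ u)
  have hφβ : φ ≫ (Over.pullback ξ).map u = bcHom ξ β := by
    rw [conj_comp, hgh, bcHom_conj]
    simp only [bcHom, Category.assoc, Functor.map_comp]
    rfl
  obtain ⟨χ, hχm, hχu⟩ := exists_torus_lift u φ β hφβ
  haveI := hχm
  have hχ : bcHom ξ χ = φ := by
    rw [← cancel_mono ((Over.pullback ξ).map u), hφβ, ← hχu]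
    simp only [bcHom, Functor.map_comp, Category.assoc]
  haveI : Mono φ := Groth.L08.Borel.mono_conjBy g (bcHom ξ i)
  haveI : Mono χ := mono_of_generic χ (K := K) (hχ.symm ▸ inferInstance)
  obtain ⟨γ, ψ, hψ⟩ := exists_conj_lift i hTk χ
  haveI hcγ : IsMonHom (AGF.conjBy γ i) := isMonHom_conj γ i
  haveI : IsMonHom ψ := Groth.L08.TorusWeights.isMonHom_of_mono ψ χ (AGF.conjBy γ i) hψ.symm
  -- the same relation in the target
  let h' := h⁻¹ * (γ ≫ u)
  have hH : AGF.conjBy h' (i ≫ u) = ψ ≫ i ≫ u := by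
    have e := congrArg (fun m => m ≫ u) hψ
    rw [conj_comp, Category.assoc, hχu] at e
    show AGF.conjBy (h⁻¹ * (γ ≫ u)) (i ≫ u) = _
    rw [← conj_conj, e]
    simp only [β, comp_conj, conj_conj, inv_mul_cancel, conj_one]
  -- at the closed point
  let y := x₀⁻¹ * bcPt κ γ
  have hy : y ≫ (Over.pullback κ).map u = bcPt κ h' := by
    rw [MonObj.mul_comp, GrpObj.inv_comp, hx₀, bcPt_comp, bcPt_mul, bcPt_inv]
  haveI : IsIso ψ := by
    haveI : Mono ψ := by
      haveI : Mono (AGF.conjBy γ i) := mono_conj γ i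
      haveI : Mono (ψ ≫ χ) := hψ ▸ ‹Mono (AGF.conjBy γ i)›
      exact mono_of_mono ψ χ
    exact Groth.L25.SplitSub.isIso_of_mono_split le_rfl ψ
  have hk : AGF.conjBy y ((Over.pullback κ).map i) = (Over.pullback κ).map ψ ≫ (Over.pullback κ).map i := by
    rw [← cancel_mono ((Over.pullback κ).map u), conj_comp, hy, ← Functor.map_comp, ← map_conj, hH]
    simp only [Functor.map_comp, Category.assoc]
  obtain ⟨x, hxl, hx₁, hx₂⟩ := exists_transporter_point' κ (i₁ := i) (i₂ := i) y ((Over.pullback κ).mapIso (asIso ψ))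
    (by rw [Functor.mapIso_hom, asIso_hom, ← hk])
  have m := Groth.L25.Locus.isMultTypeFT_of_isTorus (Groth.L01.Unip.isTorus_DS (Spec (CommRingCat.of V)) r)
  haveI := Groth.L25.MonoClosed.isClosedImmersion_of_mono m i
  have l := Groth.L25.Locus.locally_of_multTypeFT m
  obtain ⟨W, j, hj, hl, hW⟩ := Groth.L25.Locus.exists_subgroupTransporter l l i i
  haveI := Groth.L25.Locus.lfp_of_multTypeFT m
  have a₁ : LocallyOfFinitePresentation i.left := by
    have : LocallyOfFinitePresentation (i.left ≫ G.hom) := by rw [Over.w i]; infer_instance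
    exact Groth.L20.locallyOfFinitePresentation_of_comp i.left G.hom
  haveI := hl a₁ a₁
  haveI := hj
  haveI : Mono j := Over.mono_of_mono_left j
  haveI := Groth.L25.Locus.smooth_subgroupTransporter l l i i j hW
  obtain ⟨w, hwx⟩ := (hW _ x).2 ⟨hx₁, hx₂⟩
  obtain ⟨σ, hσ, hσw⟩ := Groth.L05.SecLift.exists_section W.hom w.left (Over.w w)
  let n : 𝟙_ (Over (Spec (CommRingCat.of V))) ⟶ G := Over.homMk σ hσ ≫ j
  have hny : bcPt κ n = y := by
    refine Over.OverMorphism.ext (pullback.hom_ext ?_ ((Over.w (bcPt κ n)).trans (Over.w y).symm))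
    rw [bcPt_left, ← hxl]
    show κ ≫ σ ≫ j.left = _
    rw [reassoc_of% hσw, ← Over.comp_left, hwx]
  obtain ⟨ψ', hψ'⟩ := ((hW _ n).1 ⟨Over.homMk σ hσ, rfl⟩).1 _ (toUnit _) (𝟙 _)
  replace hψ' : AGF.conjBy n i = ψ' ≫ i := by simpa only [AGF.conjBy, Category.id_comp] using hψ'
  haveI : IsMonHom (AGF.conjBy n i) := isMonHom_conj n i
  haveI : IsMonHom ψ' := Groth.L08.TorusWeights.isMonHom_of_mono ψ' i (AGF.conjBy n i) hψ'.symm
  have hψψ : ψ' = ψ := eq_of_closed_eq ψ' ψ (by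
    rw [← cancel_mono ((Over.pullback κ).map i), ← Functor.map_comp, ← hψ', map_conj, hny, hk])
  -- the correcting point normalizes the torus
  let ψK := (bcDS ξ).inv ≫ (Over.pullback ξ).map ψ ≫ (bcDS ξ).hom
  have h1 : AGF.conjBy (g⁻¹ * bcPt ξ γ) (bcHom ξ i) = ψK ≫ bcHom ξ i := by
    have h2 : AGF.conjBy (bcPt ξ γ) (bcHom ξ i) = ψK ≫ φ := by
      rw [← hχ, ← bcHom_conj, hψ, bcHom, bcHom, Functor.map_comp]
      simp only [ψK, ξ, Category.assoc, Iso.hom_inv_id_assoc]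
    rw [← conj_conj, h2, ← comp_conj, conj_conj, inv_mul_cancel, conj_one]
  have h1' : AGF.conjBy (bcPt ξ n) (bcHom ξ i) = ψK ≫ bcHom ξ i := by
    rw [← bcHom_conj, hψ', hψψ, bcHom, bcHom, Functor.map_comp]
    simp only [ψK, ξ, Category.assoc, Iso.hom_inv_id_assoc]
  have h3 : AGF.conjBy ((bcPt ξ n)⁻¹ * (g⁻¹ * bcPt ξ γ)) (bcHom ξ i) = bcHom ξ i := by
    rw [← conj_conj, h1, ← h1', conj_conj, inv_mul_cancel, conj_one]
  obtain ⟨t, ht'⟩ := (hcK.2.2 _ ((bcPt ξ n)⁻¹ * (g⁻¹ * bcPt ξ γ))).2 fun X' x t => by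
    have e := congrArg (fun m => t ≫ m) h3
    simp only [comp_conj] at e
    rw [AGF.conjBy, mul_inv_eq_iff_eq_mul] at e
    rwa [toUnit_unique x (toUnit X')]
  have hg : g = bcPt ξ γ * (t⁻¹ ≫ bcHom ξ i) * bcPt ξ n⁻¹ := by
    rw [GrpObj.inv_comp, ht', bcPt_inv]
    group
  -- the torus part
  let h₂ := (γ ≫ u)⁻¹ * h * (n⁻¹ ≫ u)⁻¹
  have ht : t⁻¹ ≫ bcHom ξ (i ≫ u) = bcPt ξ h₂ := by
    have h4 := hgh
    rw [hg, MonObj.mul_comp, MonObj.mul_comp, bcPt_comp, bcPt_comp, Category.assoc] at h4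
    rw [bcPt_mul, bcPt_mul, bcPt_inv, bcPt_inv, ← h4]
    simp only [bcHom, Functor.map_comp, Category.assoc]
    group
    rfl
  have hh₂ : bcPt κ h₂ = 1 := by
    rw [bcPt_mul, bcPt_mul, bcPt_inv, bcPt_inv, ← bcPt_comp, ← bcPt_comp κ n⁻¹ u, bcPt_inv κ n, hny, ← hx₀,
      ← GrpObj.inv_comp, ← GrpObj.inv_comp, ← MonObj.mul_comp, ← MonObj.mul_comp]
    rw [show (bcPt κ γ)⁻¹ * x₀ * y⁻¹⁻¹ = 1 by simp only [y]; group, MonObj.one_comp]
  obtain ⟨τ, hτ⟩ := exists_integral_torus_point_ends (i ≫ u) t⁻¹ h₂ ht hh₂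
  refine ⟨γ * (τ ≫ i) * n⁻¹, ?_⟩
  rw [bcPt_mul, bcPt_mul, ← bcPt_comp ξ τ i, hτ, Category.assoc, hg]
  rfl

end Groth.L08.MonoURZ
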