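import Groth.Agent.L08.MonoRed.Nbhd
import Groth.Agent.L19.BiratNormal
import Groth.Agent.L25.SplitSub.SmoothTorus
import Groth.Agent.L08.Borel.SmoothDim
import Groth.Agent.L01.Unip.Affine
import Groth.Agent.S4989
import Mathlib.AlgebraicGeometry.Morphisms.QuasiFinite

/-!
# Lifting a torus near the unit along a monomorphism

The pullback of a monomorphism to a split torus over a normal local domain is, at a point in the closure of the generic
point, an open immersion: Zariski's main theorem for the normal local ring of the torus.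
-/

set_option autoImplicit false
set_option linter.unusedSectionVars false
set_option linter.style.haveILetI false
set_option backward.isDefEq.respectTransparency.types false
set_option maxHeartbeats 1000000
set_option linter.deprecated false

universe u

open CategoryTheory CategoryTheory.Limits MonoidalCategory CartesianMonoidalCategory MonObj GrpObj AlgebraicGeometry
open Groth.L25.NilAction (toBase ofBase toBase_ofBase ofBase_toBase toBase_one)
open Groth.L08.Borel (toBase_comp toBase_map' toBase_injective)
open Groth.L25.SplitSub (bcDS bcHom)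
open Groth.L08.MonoRed

noncomputable section

namespace Groth.L08.MonoURZ

/-- the group algebra over the fraction field embeds in the fraction field of the group algebra -/
theorem exists_genEmb {V K : Type u} [CommRing V] [IsDomain V] [Field K] [Algebra V K] [IsFractionRing V K]
    {M : Type} [AddCommGroup M] [IsDomain (GA V M)] :
    ∃ lam : GA K M →+* FractionRing (GA V M), Function.Injective lam ∧
      lam.comp (scal V M K) = algebraMap (GA V M) (FractionRing (GA V M)) := by
  classical
  let A := GA V M
  let L := FractionRing A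
  have hVA : Function.Injective (algebraMap V A) := fun a b h => by
    have := congrArg (fun z => augm V M z) h
    rwa [(augm V M).commutes, (augm V M).commutes, Algebra.algebraMap_self, RingHom.id_apply, RingHom.id_apply] at this
  have hVL : Function.Injective ((algebraMap A L).comp (algebraMap V A)) :=
    (IsFractionRing.injective A L).comp hVA
  letI : Algebra K L := (IsFractionRing.lift (K := K) hVL).toAlgebra
  let lam : GA K M →ₐ[K] L := MonoidAlgebra.lift K L (Multiplicative M)
    ((algebraMap A L).toMonoidHom.comp (MonoidAlgebra.of V (Multiplicative M)))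
  have hcomp : lam.toRingHom.comp (scal V M K) = algebraMap A L := by
    refine MonoidAlgebra.ringHom_ext (fun c => ?_) fun m => ?_
    · show lam (scal V M K (MonoidAlgebra.single 1 c)) = _
      rw [show scal V M K (MonoidAlgebra.single 1 c) = algebraMap K (GA K M) (algebraMap V K c) by simp [scal],
        AlgHom.commutes]
      show IsFractionRing.lift (K := K) hVL (algebraMap V K c) = algebraMap A L (MonoidAlgebra.single 1 c)
      rw [IsFractionRing.lift_algebraMap]
      rfl
    · show lam (scal V M K (MonoidAlgebra.single m 1)) = _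
      rw [show scal V M K (MonoidAlgebra.single m 1) = MonoidAlgebra.single m 1 by simp [scal],
        MonoidAlgebra.lift_single, one_smul]
      rfl
  refine ⟨lam.toRingHom, (injective_iff_map_eq_zero _).2 fun f hf => ?_, hcomp⟩
  -- clear the denominators
  have hd : ∀ g : GA K M, ∃ (b : V) (a : A), b ≠ 0 ∧ scal V M K a = algebraMap K (GA K M) (algebraMap V K b) * g := by
    intro g
    induction g using MonoidAlgebra.induction_linear with
    | zero => exact ⟨1, 0, one_ne_zero, by simp⟩
    | add g h hg hh =>
      obtain ⟨b, a, hb, ha⟩ := hg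
      obtain ⟨b', a', hb', ha'⟩ := hh
      refine ⟨b * b', algebraMap V A b' * a + algebraMap V A b * a', mul_ne_zero hb hb', ?_⟩
      rw [map_add, map_mul, map_mul, ha, ha', ← RingHom.comp_apply (scal V M K) (algebraMap V A),
        ← RingHom.comp_apply (scal V M K) (algebraMap V A), scal_comp, RingHom.comp_apply, RingHom.comp_apply,
        map_mul, map_mul]
      ring
    | single m c =>
      obtain ⟨a, b, hb, rfl⟩ := IsFractionRing.div_surjective (A := V) c
      have hb0 : algebraMap V K b ≠ 0 := IsFractionRing.to_map_ne_zero_of_mem_nonZeroDivisors hb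
      refine ⟨b, MonoidAlgebra.single m a, nonZeroDivisors.ne_zero hb, ?_⟩
      simp [scal, mul_div_cancel₀ _ hb0]
  obtain ⟨b, a, hb, ha⟩ := hd f
  have h0 : algebraMap A L a = 0 := by
    rw [← hcomp, RingHom.comp_apply, ha, map_mul]
    exact mul_eq_zero_of_right _ hf
  rw [IsFractionRing.injective A L (h0.trans (map_zero _).symm), map_zero] at ha
  have hbK : algebraMap K (GA K M) (algebraMap V K b) ≠ 0 := fun h =>
    hb (IsFractionRing.injective V K (((algebraMap K (GA K M)).injective (h.trans (map_zero _).symm)).trans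
      (map_zero _).symm))
  have hu : IsUnit (algebraMap K (GA K M) (algebraMap V K b)) :=
    (isUnit_iff_ne_zero.2 fun h => hbK (by rw [h, map_zero])).map _
  exact (hu.mul_right_eq_zero).1 ha.symm

/-- the local rings of a split torus over a normal domain are normal -/
theorem isIntegrallyClosed_torus {V : Type u} [CommRing V] [IsDomain V] [IsIntegrallyClosed V] (r : ℕ)
    (p : Ideal (GA V (Fin r → ℤ))) [p.IsPrime] : IsIntegrallyClosed (Localization.AtPrime p) := by
  let X := XM V (Fin r → ℤ)
  haveI hDS : Smooth (Red.DS (Spec (CommRingCat.of V)) (Fin r → ℤ)).hom :=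
    Groth.L08.Borel.smooth_of_isTorus (Groth.L01.Unip.isTorus_DS _ r)
  haveI : IsIso (pM V (Fin r → ℤ)).left := inferInstanceAs (IsIso ((Over.forget _).map (pM V (Fin r → ℤ))))
  haveI : Smooth X.hom := by rw [← Over.w (pM V (Fin r → ℤ))]; infer_instance
  let x : X.left := (⟨p, inferInstance⟩ : PrimeSpectrum (GA V (Fin r → ℤ)))
  let y : Spec (CommRingCat.of V) := X.hom x
  have hx : x ∈ X.hom.smoothLocus := by rw [AlgebraicGeometry.Scheme.Hom.smoothLocus_eq_top]; trivial
  have hy : IsDomain ((Spec (CommRingCat.of V)).presheaf.stalk y) ∧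
      IsIntegrallyClosed ((Spec (CommRingCat.of V)).presheaf.stalk y) := by
    let P : Ideal V := (show PrimeSpectrum V from y).asIdeal
    let e : Localization.AtPrime P ≃+* (Spec (CommRingCat.of V)).presheaf.stalk y :=
      (StructureSheaf.stalkIso V (show PrimeSpectrum V from y)).toRingEquiv
    haveI : IsIntegrallyClosed (Localization.AtPrime P) :=
      isIntegrallyClosed_of_isLocalization _ P.primeCompl P.primeCompl_le_nonZeroDivisors
    exact ⟨e.symm.injective.isDomain, IsIntegrallyClosed.of_equiv e⟩
  obtain ⟨-, h⟩ := Groth.Agent.S4989.result X.hom x hx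
  obtain ⟨hd, hi⟩ := h.2 hy
  haveI : IsIntegrallyClosed ((AlgebraicGeometry.structurePresheafInCommRingCat (GA V (Fin r → ℤ))).stalk
      (⟨p, inferInstance⟩ : PrimeSpectrum (GA V (Fin r → ℤ)))) := hi
  exact IsIntegrallyClosed.of_equiv
    (StructureSheaf.stalkIso (GA V (Fin r → ℤ)) (⟨p, inferInstance⟩ : PrimeSpectrum _)).symm.toRingEquiv

variable {V : Type u} [CommRing V] [IsDomain V] [IsLocalRing V] [IsIntegrallyClosed V] {K : Type u} [Field K]
  [Algebra V K] [IsFractionRing V K] {G H : Over (Spec (CommRingCat.of V))} [GrpObj G] [GrpObj H] {r : ℕ}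

/-- **a torus of the generic fibre lifts near the unit** -/
theorem exists_local_lift (u : G ⟶ H) [IsMonHom u] [Mono u] [LocallyOfFiniteType u.left]
    (φ : Red.DS (Spec (CommRingCat.of K)) (Fin r → ℤ) ⟶ Red.bc (baseMap V K) G) [IsMonHom φ]
    (β : Red.DS (Spec (CommRingCat.of V)) (Fin r → ℤ) ⟶ H) [IsMonHom β]
    (h : φ ≫ (Over.pullback (baseMap V K)).map u = bcHom (baseMap V K) β) :
    ∃ D : (Red.DS (Spec (CommRingCat.of V)) (Fin r → ℤ)).left.Opens,
      (∀ s, (1 : 𝟙_ _ ⟶ Red.DS (Spec (CommRingCat.of V)) (Fin r → ℤ)).left s ∈ D) ∧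
        ∃ ψ : D.toScheme ⟶ G.left, ψ ≫ u.left = D.ι ≫ β.left := by
  classical
  let M := Fin r → ℤ
  let A := GA V M
  haveI : IsDomain A := inferInstance
  obtain ⟨lam, hlam, hlam'⟩ := exists_genEmb (V := V) (K := K) (M := M)
  let L := FractionRing A
  let ψ : Over.mk ((XM K M).hom ≫ baseMap V K) ⟶ G := toBase (baseMap V K) (pM K M ≫ φ)
  let bl : Spec (CommRingCat.of A) ⟶ H.left := (pM V M ≫ β).left
  have hψu : ψ.left ≫ u.left = Spec.map (CommRingCat.ofHom (scal V M K)) ≫ bl := by
    have h1 : ψ ≫ u = genPt V M K ≫ pM V M ≫ β := by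
      rw [genPt_comp, ← h, ← toBase_map', Category.assoc]
    exact congrArg (fun z => z.left) h1
  let eG : Spec (CommRingCat.of V) ⟶ G.left := (1 : 𝟙_ (Over (Spec (CommRingCat.of V))) ⟶ G).left
  have heP : Spec.map (CommRingCat.ofHom (augm V M).toRingHom) ≫ bl = eG ≫ u.left := by
    show (augPt V M ≫ pM V M ≫ β).left = ((1 : 𝟙_ (Over (Spec (CommRingCat.of V))) ⟶ G) ≫ u).left
    rw [← Category.assoc, augPt_pM, MonObj.one_comp, MonObj.one_comp]
  -- the points of the pullback
  let s : Spec (CommRingCat.of (GA K M)) ⟶ pullback bl u.left :=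
    pullback.lift (Spec.map (CommRingCat.ofHom (scal V M K))) ψ.left hψu.symm
  let eP : Spec (CommRingCat.of V) ⟶ pullback bl u.left :=
    pullback.lift (Spec.map (CommRingCat.ofHom (augm V M).toRingHom)) eG heP
  have hse : Spec.map (CommRingCat.ofHom (augm K M).toRingHom) ≫ s = baseMap V K ≫ eP := by
    rw [← cancel_mono (pullback.fst bl u.left), Category.assoc, Category.assoc, pullback.lift_fst,
      pullback.lift_fst, ← Spec.map_comp, ← Spec.map_comp]
    congr 1
    exact CommRingCat.hom_ext (RingHom.ext fun x => augm_scal K x)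
  let x := eP (IsLocalRing.closedPoint V)
  let pgen : Spec (CommRingCat.of L) ⟶ pullback bl u.left := Spec.map (CommRingCat.ofHom lam) ≫ s
  have hspec : pgen (IsLocalRing.closedPoint L) ⤳ x := by
    have h1 : (PrimeSpectrum.comap lam (IsLocalRing.closedPoint L)) ⤳
        (PrimeSpectrum.comap (augm K M).toRingHom (IsLocalRing.closedPoint K)) := by
      rw [← PrimeSpectrum.le_iff_specializes]
      intro a ha
      have : lam a ∈ IsLocalRing.maximalIdeal L := ha
      rw [IsLocalRing.maximalIdeal_eq_bot, Ideal.mem_bot] at this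
      rw [hlam (this.trans (map_zero lam).symm)]
      exact Ideal.zero_mem _
    have h2 := h1.map s.continuous
    have h3 : s (PrimeSpectrum.comap (augm K M).toRingHom (IsLocalRing.closedPoint K)) =
        eP (baseMap V K (IsLocalRing.closedPoint K)) := by
      rw [← Scheme.Hom.comp_apply, ← hse]
      rfl
    exact (h3 ▸ h2 : pgen (IsLocalRing.closedPoint L) ⤳ _).trans
      ((IsLocalRing.specializes_closedPoint _).map eP.continuous)
  obtain ⟨_, ⟨W, hW, rfl⟩, hxW, -⟩ :=
    (pullback bl u.left).isBasis_affineOpens.exists_subset_of_mem_open (Set.mem_univ x) isOpen_univ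
  obtain ⟨q, hq⟩ := hW.range_fromSpec.ge hxW
  let C := Γ(pullback bl u.left, W)
  obtain ⟨fA, hfA⟩ := Spec.map_surjective (hW.fromSpec ≫ pullback.fst bl u.left)
  haveI : LocallyQuasiFinite (Spec.map fA) := by
    rw [hfA]
    infer_instance
  haveI : LocallyOfFiniteType (Spec.map fA) := by rw [hfA]; infer_instance
  letI : Algebra A C := fA.hom.toAlgebra
  haveI : Algebra.QuasiFinite A C := RingHom.quasiFinite_algebraMap.1
    ((HasRingHomProperty.Spec_iff (P := @LocallyQuasiFinite) (φ := fA)).1 inferInstance)
  haveI : Algebra.FiniteType A C := RingHom.finiteType_algebraMap.1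
    ((HasRingHomProperty.Spec_iff (P := @LocallyOfFiniteType) (φ := fA)).1 inferInstance)
  -- the generic point sees the coordinates
  let lg : Spec (CommRingCat.of L) ⟶ Spec C := IsOpenImmersion.lift hW.fromSpec pgen (by
    rintro _ ⟨z, rfl⟩
    rw [hW.range_fromSpec, Subsingleton.elim (α := PrimeSpectrum L) z (IsLocalRing.closedPoint L)]
    exact hspec.mem_open W.2 hxW)
  have hlg : lg ≫ hW.fromSpec = pgen := IsOpenImmersion.lift_fac _ _ _
  obtain ⟨κ₀, hκ₀⟩ := Spec.map_surjective lg
  have hκA : κ₀.hom.comp fA.hom = algebraMap A L := by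
    have h1 : fA ≫ κ₀ = CommRingCat.ofHom (algebraMap A L) := Spec.map_injective (by
      rw [Spec.map_comp, hκ₀, hfA, reassoc_of% hlg, Category.assoc, pullback.lift_fst, ← Spec.map_comp]
      congr 1
      exact CommRingCat.hom_ext hlam')
    exact congrArg (fun z => z.hom) h1
  let κ : C →ₐ[A] L := { κ₀.hom with commutes' := fun a => RingHom.congr_fun hκA a }
  have hker : RingHom.ker κ.toRingHom ≤ q.asIdeal := by
    have h1 : lg (IsLocalRing.closedPoint L) ⤳ q := by
      rw [← hW.fromSpec.isOpenEmbedding.isInducing.specializes_iff, hq, ← Scheme.Hom.comp_apply, hlg]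
      exact hspec
    rw [← hκ₀] at h1
    have h2 : (PrimeSpectrum.comap κ₀.hom (IsLocalRing.closedPoint L)) ≤ q :=
      (PrimeSpectrum.le_iff_specializes _ _).2 h1
    refine le_trans (fun c hc => ?_) h2
    show κ₀.hom c ∈ IsLocalRing.maximalIdeal L
    rw [show κ₀.hom c = 0 from hc]
    exact zero_mem _
  -- Zariski's main theorem
  let B := κ.range
  let π : C →ₐ[A] B := κ.rangeRestrict
  have hπ : Function.Surjective π := κ.rangeRestrict_surjective
  haveI : Algebra.FiniteType A B := Algebra.FiniteType.of_surjective π hπ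
  haveI : Algebra.QuasiFinite A B := Algebra.QuasiFinite.of_surjective_algHom π hπ
  let qB : Ideal B := q.asIdeal.map π.toRingHom
  have hkerπ : RingHom.ker π.toRingHom ≤ q.asIdeal := fun c hc =>
    hker (show κ c = 0 from congrArg Subtype.val hc)
  haveI : qB.IsPrime := Ideal.map_isPrime_of_surjective hπ hkerπ
  let p := qB.under A
  have hp : p = q.asIdeal.comap fA.hom := by
    show (q.asIdeal.map π.toRingHom).comap (algebraMap A B) = _
    rw [show algebraMap A B = π.toRingHom.comp (algebraMap A C) from π.comp_algebraMap.symm, ← Ideal.comap_comap,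
      Ideal.comap_map_of_surjective π.toRingHom hπ, ← RingHom.ker_eq_comap_bot, sup_eq_left.2 hkerπ]
    rfl
  haveI := isIntegrallyClosed_torus (V := V) r p
  let O := Localization.AtPrime p
  letI : Algebra O L := (IsLocalization.lift (M := p.primeCompl) (g := algebraMap A L)
    fun y => isUnit_iff_ne_zero.2 fun h0 => y.2 (by
      rw [IsFractionRing.injective A L (h0.trans (map_zero _).symm)]; exact zero_mem _)).toAlgebra
  haveI : IsScalarTower A O L := IsScalarTower.of_algebraMap_eq fun a => (IsLocalization.lift_eq _ a).symm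
  haveI : IsFractionRing O L :=
    IsFractionRing.isFractionRing_of_isDomain_of_isLocalization p.primeCompl O L
  obtain ⟨c, hc, hcB⟩ := Groth.L19.exists_away_of_quasiFiniteAt (A := A) (B := B) (O := O) (K := L) qB
    Subtype.val_injective
  -- the map to the localisation
  let ν₀ : Localization.Away c →+* L := IsLocalization.Away.lift c (g := algebraMap A L)
    (isUnit_iff_ne_zero.2 fun h0 => hc (by
      rw [IsFractionRing.injective A L (h0.trans (map_zero _).symm)]; exact zero_mem _))
  have hc0 : c ≠ 0 := fun h0 => hc (h0 ▸ zero_mem _)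
  haveI : IsDomain (Localization.Away c) :=
    IsLocalization.isDomain_localization (powers_le_nonZeroDivisors_of_noZeroDivisors hc0)
  have hν₀ : Function.Injective ν₀ := by
    refine (injective_iff_map_eq_zero ν₀).2 fun z hz => ?_
    obtain ⟨⟨a, t⟩, hat⟩ := IsLocalization.surj (Submonoid.powers c) z
    have h1 : algebraMap A L a = 0 := by
      have h2 : ν₀ (algebraMap A (Localization.Away c) a) = algebraMap A L a :=
        IsLocalization.Away.lift_eq c _ a
      rw [← h2, ← hat, map_mul]
      exact mul_eq_zero_of_left hz _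
    rw [IsFractionRing.injective A L (h1.trans (map_zero _).symm), map_zero] at hat
    exact ((IsLocalization.map_units (Localization.Away c) t).mul_left_eq_zero).1 hat
  have hν₀A : ∀ a, ν₀ (algebraMap A _ a) = algebraMap A L a := fun a => IsLocalization.Away.lift_eq c _ a
  have hrange : ∀ b : C, ∃ z, ν₀ z = κ b := fun b => by
    obtain ⟨a, n, han⟩ := hcB (π b)
    refine ⟨IsLocalization.mk' (Localization.Away c) a (⟨c ^ n, n, rfl⟩ : Submonoid.powers c), ?_⟩
    have h2 : algebraMap A L c ^ n * κ b = algebraMap A L a := congrArg Subtype.val han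
    have h3 : ν₀ (IsLocalization.mk' (Localization.Away c) a (⟨c ^ n, n, rfl⟩ : Submonoid.powers c)) *
        algebraMap A L c ^ n = algebraMap A L a := by
      rw [← hν₀A, ← map_pow, ← map_pow, ← map_mul, ← hν₀A]
      exact congrArg ν₀ (IsLocalization.mk'_spec _ a (⟨c ^ n, n, rfl⟩ : Submonoid.powers c))
    have hne : algebraMap A L c ^ n ≠ 0 := pow_ne_zero _ fun h0 =>
      hc0 (IsFractionRing.injective A L (h0.trans (map_zero _).symm))
    exact mul_right_cancel₀ hne (h3.trans (h2.symm.trans (mul_comm _ _)))
  choose g hg using hrange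
  let θ : C →+* Localization.Away c :=
    { toFun := g
      map_one' := hν₀ (by rw [hg, map_one, map_one])
      map_mul' := fun a b => hν₀ (by rw [hg, map_mul, map_mul, hg, hg])
      map_zero' := hν₀ (by rw [hg, map_zero, map_zero])
      map_add' := fun a b => hν₀ (by rw [hg, map_add, map_add, hg, hg]) }
  have hθA : θ.comp fA.hom = algebraMap A (Localization.Away c) :=
    RingHom.ext fun a => hν₀ ((hg _).trans ((κ.commutes a).trans (hν₀A a).symm))
  let w : Spec (CommRingCat.of (Localization.Away c)) ⟶ pullback bl u.left :=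
    Spec.map (CommRingCat.ofHom θ) ≫ hW.fromSpec
  let j : Spec (CommRingCat.of (Localization.Away c)) ⟶ Spec (CommRingCat.of A) :=
    Spec.map (CommRingCat.ofHom (algebraMap A (Localization.Away c)))
  haveI : IsOpenImmersion j := IsOpenImmersion.of_isLocalization c
  have hwfst : w ≫ pullback.fst bl u.left = j := by
    rw [Category.assoc, ← hfA, ← Spec.map_comp]
    congr 1
    exact CommRingCat.hom_ext hθA
  haveI : IsIso (pM V M).left := inferInstanceAs (IsIso ((Over.forget _).map (pM V M)))
  let jT : Spec (CommRingCat.of (Localization.Away c)) ⟶ (Red.DS (Spec (CommRingCat.of V)) M).left :=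
    j ≫ (pM V M).left
  refine ⟨jT.opensRange, fun t => ?_, jT.isoOpensRange.inv ≫ w ≫ pullback.snd bl u.left, ?_⟩
  · -- the unit section
    have h1 : (1 : 𝟙_ _ ⟶ Red.DS (Spec (CommRingCat.of V)) M).left =
        Spec.map (CommRingCat.ofHom (augm V M).toRingHom) ≫ (pM V M).left := by
      rw [← augPt_pM]; rfl
    refine ((IsLocalRing.specializes_closedPoint (R := V) t).map
      (1 : 𝟙_ _ ⟶ Red.DS (Spec (CommRingCat.of V)) M).left.continuous).mem_open jT.opensRange.2 ?_
    have h2 : pullback.fst bl u.left x = (Spec.map (CommRingCat.ofHom (augm V M).toRingHom))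
        (IsLocalRing.closedPoint V) := by
      rw [← Scheme.Hom.comp_apply, pullback.lift_fst]
    have h3 : (Spec.map fA) q = pullback.fst bl u.left x := by rw [hfA, Scheme.Hom.comp_apply, hq]
    have hcq : (show PrimeSpectrum A from (Spec.map fA) q) ∈ Set.range (PrimeSpectrum.comap
        (algebraMap A (Localization.Away c))) := by
      rw [PrimeSpectrum.localization_away_comap_range (Localization.Away c) c]
      show c ∉ q.asIdeal.comap fA.hom
      rw [← hp]
      exact hc
    obtain ⟨z, hz⟩ := hcq
    refine ⟨z, ?_⟩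
    rw [h1, Scheme.Hom.comp_apply, Scheme.Hom.comp_apply, ← h2, ← h3]
    exact congrArg (pM V M).left hz
  · rw [← cancel_epi jT.isoOpensRange.hom, Scheme.Hom.isoOpensRange_hom_ι_assoc]
    simp only [Iso.hom_inv_id_assoc, Category.assoc]
    rw [← pullback.condition, reassoc_of% hwfst]
    simp only [bl, jT, Over.comp_left, Category.assoc]

end Groth.L08.MonoURZ
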