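import Groth.Agent.L08.AffVal.Global
import Groth.Agent.L08.MonoURZ.Closed
import Groth.Agent.L08.MonoURZ.CoreGen
import Groth.Agent.L08.MonoURZ.Torus
import Groth.Agent.L08.Borel.SolvTori
import Groth.Agent.L08.Borel.MaxTori
import Groth.Agent.L08.Borel.SelfCentral
import Groth.Agent.L08.Borel.CartanNhd
import Groth.Agent.L08.Borel.BaseChange
import Groth.Agent.L08.ActSepConn
import Groth.Agent.S3025

/-!
# Solvable groups of unipotent rank zero at valuation rings

A smooth group with affine connected fibres, solvable of unipotent rank zero at the geometric points, has a split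
maximal torus over a valuation ring with algebraically closed fraction field, which is its own normaliser there, so
generic points sent to integral points by a monomorphism are integral.
-/

set_option autoImplicit false
set_option linter.unusedSectionVars false
set_option linter.style.haveILetI false
set_option backward.isDefEq.respectTransparency.types false
set_option maxHeartbeats 1000000
set_option linter.deprecated false

universe u

open CategoryTheory CategoryTheory.Limits MonoidalCategory CartesianMonoidalCategory MonObj GrpObj AlgebraicGeometry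
open Groth.L25.SplitSub (bcDS bcHom isMonHom_bcHom)
open Groth.L25.LimHom (cmp isMonHom_cmp isMonHom_cmp_inv)
open Groth.L08.MonoRed IsLocalRing

noncomputable section

namespace Groth.L08.MonoURZ

/-- solvability passes to groups with an injective homomorphism into a solvable one -/
theorem isSolvableGrp_of_injective {S : Scheme.{u}} {G G' : Over S} [GrpObj G] [GrpObj G'] (f : G' ⟶ G) [IsMonHom f]
    [Mono f] (h : Red.IsSolvableGrp G) : Red.IsSolvableGrp G' := by
  obtain ⟨n, hn⟩ := h
  refine ⟨n, fun Y => ?_⟩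
  let Φ : (Y ⟶ G') →* (Y ⟶ G) := MonoidHom.mk' (fun a => a ≫ f) fun a b => MonObj.mul_comp a b f
  have hΦ : Function.Injective Φ := fun a b e => (cancel_mono f).1 e
  refine (Subgroup.map_eq_bot_iff_of_injective _ hΦ).1 (le_bot_iff.1 ?_)
  exact (map_derivedSeries_le_derivedSeries Φ n).trans (hn Y).le

section Field

variable {k : Type u} [Field k] [IsAlgClosed k] {B T : Over (Spec (CommRingCat.of k))} [GrpObj B] [GrpObj T]
  [IsAffine B.left] [Smooth B.hom] [ConnectedSpace B.left]

/-- **in a connected solvable group a self-centralising torus is its own normaliser** -/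
theorem exists_pt_of_normalizing (hsol : Red.IsSolvableGrp B) (hT : Red.IsTorus T) (i : T ⟶ B) [IsMonHom i] [Mono i]
    (hc : Red.IsCentralizerOf i i) (n : 𝟙_ (Over (Spec (CommRingCat.of k))) ⟶ B) (θ : T ⟶ T)
    (h : AGF.conjBy n i = θ ≫ i) : ∃ t, t ≫ i = n := by
  obtain ⟨T', gT', iT, p, hm, hmono, hT', hp, hip, -, habs⟩ := Groth.L08.Borel.exists_torus_absorbing hsol
  haveI := hm; haveI := hmono; haveI := hp
  obtain ⟨g, f, hf⟩ := habs T i hT
  have hcomm := (Groth.L08.Borel.torus_props hT').2.2.2.2
  have hinv : ∀ (x : 𝟙_ (Over (Spec (CommRingCat.of k))) ⟶ B), AGF.conjBy x i ≫ p = i ≫ p := fun x => by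
    rw [AGF.conjBy, MonObj.mul_comp, MonObj.mul_comp, GrpObj.inv_comp, hcomm T ((toUnit T ≫ x) ≫ p) (i ≫ p), mul_inv_cancel_right]
  have hfi : f = i ≫ p := by
    rw [← hinv g, ← hf, Category.assoc, hip, Category.comp_id]
  haveI : Mono (f ≫ iT) := by
    rw [hf]; exact Groth.L08.Borel.mono_conjBy g i
  haveI : Mono f := mono_of_mono f iT
  haveI : Mono (i ≫ p) := hfi ▸ ‹Mono f›
  have hθ : θ = 𝟙 T := by
    rw [← cancel_mono (i ≫ p), ← Category.assoc, ← h, Category.id_comp, hinv]
  rw [hθ, Category.id_comp] at h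
  refine (hc.2.2 _ n).2 fun X' x t => ?_
  have h1 := congrArg (fun m => t ≫ m) h
  simp only [AGF.conjBy, MonObj.comp_mul, GrpObj.comp_inv, ← Category.assoc] at h1
  rw [toUnit_unique (t ≫ toUnit T) x] at h1
  exact mul_inv_eq_iff_eq_mul.1 h1

end Field

variable {S : Scheme.{u}} {G H : Over S} [GrpObj G] [GrpObj H] [Smooth G.hom] [QuasiCompact G.hom]
  (hu0 : SGA3x.UnipotentRankZero G) (haff : ∀ s : S, IsAffine (pullback G.hom (S.fromSpecResidueField s)))
  (hconn : ∀ s : S, _root_.IsConnected (G.hom.base ⁻¹' {s}))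
  (hsolv : ∀ s : S, Red.IsSolvableGrp (Red.geomFibre s G))

include hconn in
/-- groups with connected fibres are separated -/
theorem isSeparated_of_conn : IsSeparated G.hom := (Groth.Agent.S3025.result S G hconn).1

include hsolv in
/-- solvable at every geometric point -/
theorem isSolvableGrp_point {L : Type u} [Field L] [IsAlgClosed L] (b : Spec (CommRingCat.of L) ⟶ S) :
    Red.IsSolvableGrp (Red.bc b G) := by
  obtain ⟨⟨s, f⟩, hb⟩ := (Scheme.SpecToEquivOfField L S).symm.surjective b
  let κ := S.residueField s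
  letI : Algebra κ L := f.hom.toAlgebra
  let φ : AlgebraicClosure κ →ₐ[κ] L := IsAlgClosed.lift
  let θ := Spec.map (CommRingCat.ofHom φ.toRingHom)
  have hθ : θ ≫ Red.geomPt s = b := by
    rw [← hb]
    show _ ≫ Spec.map _ ≫ S.fromSpecResidueField s = Spec.map f ≫ S.fromSpecResidueField s
    rw [← Category.assoc, ← Spec.map_comp]
    congr 2
    exact CommRingCat.hom_ext (RingHom.ext fun x => φ.commutes x)
  haveI := isMonHom_cmp_inv hθ G
  exact isSolvableGrp_of_injective (cmp hθ G).inv (Groth.L08.Borel.isSolvableGrp_bc θ (hsolv s))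

variable {V : Type u} [CommRing V] [IsDomain V] [ValuationRing V] {K : Type u} [Field K] [IsAlgClosed K] [Algebra V K]
  [IsFractionRing V K]

include K haff hconn in
/-- **base changes to valuation rings are affine** -/
theorem isAffine_bc (b : Spec (CommRingCat.of V) ⟶ S) : IsAffine (Red.bc b G).left := by
  haveI : IsAlgClosed (FractionRing V) :=
    IsAlgClosed.of_ringEquiv K (FractionRing V) (FractionRing.algEquiv V K).symm.toRingEquiv
  haveI := isSeparated_of_conn hconn
  haveI : Smooth (Red.bc b G).hom := inferInstanceAs (Smooth (pullback.snd G.hom b))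
  haveI : QuasiCompact (Red.bc b G).hom := inferInstanceAs (QuasiCompact (pullback.snd G.hom b))
  haveI : IsSeparated (Red.bc b G).hom := inferInstanceAs (IsSeparated (pullback.snd G.hom b))
  refine Groth.L08.AffVal.isAffine_of_affine_fibres ((Groth.L08.Borel.irrFib_of_isConnected G hconn).baseChange b)
    fun s => ?_
  haveI : IsAffine (pullback G.hom ((Spec (CommRingCat.of V)).fromSpecResidueField s ≫ b)) :=
    Groth.L08.AffVal.isAffine_pullback_point G.hom haff _
  exact IsAffine.of_isIso (pullbackLeftPullbackSndIso G.hom b _).hom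

include K hu0 haff hconn in
/-- **split maximal tori over valuation rings** -/
theorem exists_split_torus_val (b : Spec (CommRingCat.of V) ⟶ S) :
    ∃ (r : ℕ) (i : Red.DS (Spec (CommRingCat.of V)) (Fin r → ℤ) ⟶ Red.bc b G), Red.IsMaximalTorus i := by
  haveI : HenselianLocalRing V := Groth.L27.NormalSepClosed.henselianLocalRing (R := V) K
  haveI : IsAlgClosed (ResidueField V) := isAlgClosed_residue (V := V) (K := K)
  haveI := isAffine_bc (K := K) haff hconn b
  haveI : Smooth (Red.bc b G).hom := inferInstanceAs (Smooth (pullback.snd G.hom b))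
  haveI : IsAffineHom (Red.bc b G).hom := inferInstance
  haveI : QuasiCompact (Red.bc b G).hom := inferInstance
  let s₀ := closedPoint V
  obtain ⟨B, _, v, hv, ⟨p, hp⟩, T, gT, iT, hiT, r, ⟨e⟩, -⟩ := Groth.L08.Borel.exists_split_maxTorus_nhd
    (G := Red.bc b G) (Groth.L25.Extension.isConnected_fibre_bc b G hconn) s₀ fun T _ i hi X g h => by
      obtain ⟨t, ht⟩ := ((selfCentral_bc hu0 b (Red.geomPt (S := Spec (CommRingCat.of V)) s₀)
        (Groth.L24.TorusField.isMaxTorus_of_isMaximalTorus_field hi)).2.2 X g).2 h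
      exact ⟨t, ht.symm⟩
  haveI := hv
  obtain ⟨c, hc⟩ := exists_etale_section v (𝟙 (Spec (CommRingCat.of V))) (p := p) hp
  obtain ⟨i, hi⟩ := exists_maxTorus_pullback v hiT e hc
  haveI := hi.1
  haveI : Smooth (Red.bc (𝟙 (Spec (CommRingCat.of V))) (Red.bc b G)).hom :=
    inferInstanceAs (Smooth (pullback.snd (Red.bc b G).hom _))
  haveI : QuasiCompact (Red.bc (𝟙 (Spec (CommRingCat.of V))) (Red.bc b G)).hom :=
    inferInstanceAs (QuasiCompact (pullback.snd (Red.bc b G).hom _))
  haveI := isMonHom_cmp (Category.id_comp b) G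
  exact ⟨r, _, Groth.L08.Borel.isMaximalTorus_comp_iso hi (cmp (Category.id_comp b) G)⟩

include hu0 haff hconn hsolv in
/-- **generic points sent to integral points are integral** -/
theorem exists_integral_point_solv [LocallyOfFiniteType H.hom] [QuasiCompact H.hom] (u : G ⟶ H) [IsMonHom u] [Mono u]
    (b : Spec (CommRingCat.of V) ⟶ S)
    (g : 𝟙_ (Over (Spec (CommRingCat.of K))) ⟶ Red.bc (baseMap V K) (Red.bc b G))
    (h : 𝟙_ (Over (Spec (CommRingCat.of V))) ⟶ Red.bc b H)
    (hgh : g ≫ (Over.pullback (baseMap V K)).map ((Over.pullback b).map u) = bcPt (baseMap V K) h) :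
    ∃ γ, bcPt (baseMap V K) γ = g := by
  haveI : HenselianLocalRing V := Groth.L27.NormalSepClosed.henselianLocalRing (R := V) K
  haveI : IsAlgClosed (ResidueField V) := isAlgClosed_residue (V := V) (K := K)
  haveI := isSeparated_of_conn hconn
  obtain ⟨r, i, hi⟩ := exists_split_torus_val (K := K) hu0 haff hconn b
  haveI := hi.1; haveI := hi.2.1
  let ξ := baseMap V K
  haveI : Smooth (Red.bc b G).hom := inferInstanceAs (Smooth (pullback.snd G.hom b))
  haveI : QuasiCompact (Red.bc b G).hom := inferInstanceAs (QuasiCompact (pullback.snd G.hom b))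
  haveI : IsSeparated (Red.bc b G).hom := inferInstanceAs (IsSeparated (pullback.snd G.hom b))
  haveI : LocallyOfFiniteType (Red.bc b H).hom := inferInstanceAs (LocallyOfFiniteType (pullback.snd H.hom b))
  haveI : QuasiCompact (Red.bc b H).hom := inferInstanceAs (QuasiCompact (pullback.snd H.hom b))
  haveI : IsMonHom ((Over.pullback b).map u) := Groth.L25.MonoClosed.isMonHom_pullbackMap _ _
  haveI : IsAffine (Red.bc ξ (Red.bc b G)).left := by
    haveI := Groth.L08.AffVal.isAffine_pullback_point G.hom haff (ξ ≫ b)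
    exact IsAffine.of_isIso (pullbackLeftPullbackSndIso G.hom b ξ).hom
  haveI : Smooth (Red.bc ξ (Red.bc b G)).hom := inferInstanceAs (Smooth (pullback.snd (Red.bc b G).hom ξ))
  haveI : ConnectedSpace ↥(Red.bc ξ (Red.bc b G)).left :=
    Groth.L08.Borel.connectedSpace_bc_point (Red.bc b G) (Groth.L25.Extension.isConnected_fibre_bc b G hconn) ξ
  have hsol : Red.IsSolvableGrp (Red.bc ξ (Red.bc b G)) := by
    haveI := isMonHom_cmp (b := ξ) (a := b) rfl G
    exact isSolvableGrp_of_injective (cmp (b := ξ) (a := b) rfl G).hom (isSolvableGrp_point hsolv (ξ ≫ b))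
  have hiK := isMaxTorus_bcHom i hi ξ
  have hc := selfCentral_bc hu0 b ξ hiK
  haveI := hiK.1; haveI := hiK.2.1
  refine exists_integral_point i (isMaxTorus_bcHom i hi (closedMap V)) (fun n θ _ hn => ?_)
    ((Over.pullback b).map u) g h hgh
  obtain ⟨t, ht⟩ := exists_pt_of_normalizing hsol hiK.2.2.1 (bcHom ξ i) hc n θ hn
  refine ⟨1, t, ?_⟩
  rw [show bcPt ξ (1 : 𝟙_ (Over (Spec (CommRingCat.of V))) ⟶ Red.bc b G) = 1 from
    Groth.L08.Borel.toBase_injective ξ _ _ (by rw [toBase_bcPt, Groth.L25.NilAction.toBase_one, MonObj.comp_one]),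
    _root_.one_mul, ht]

end Groth.L08.MonoURZ
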