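import Groth.Agent.L08.MonoURZ.LocalLift
import Groth.Agent.L08.TorusWeights.MulCover
import Groth.Agent.L25.SplitSub.SmoothTorus

/-!
# A torus of the generic fibre extends along a monomorphism

Over a normal local domain, the lift near the unit of a torus of the generic fibre extends to the whole torus by
translations.
-/

set_option autoImplicit false
set_option linter.unusedSectionVars false
set_option linter.style.haveILetI false
set_option backward.isDefEq.respectTransparency.types false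

universe u

open CategoryTheory CategoryTheory.Limits MonoidalCategory CartesianMonoidalCategory MonObj GrpObj AlgebraicGeometry
open Groth.L25.SplitSub (bcHom)
open Groth.L08.MonoRed

noncomputable section

namespace Groth.L08.MonoURZ

/-- the fibres of a split torus are connected -/
theorem isConnected_fibre_DS (S : Scheme.{u}) (r : ℕ) (s : S) :
    _root_.IsConnected ((Red.DS S (Fin r → ℤ)).hom.base ⁻¹' {s}) := by
  haveI := Groth.L25.SplitSub.connectedSpace_DS_fibre S r s
  have e : (Red.DS S (Fin r → ℤ)).hom.base ⁻¹' {s} =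
      Set.range (pullback.fst (Red.DS S (Fin r → ℤ)).hom (S.fromSpecResidueField s)) := by
    rw [Scheme.Pullback.range_fst, Scheme.range_fromSpecResidueField]
  rw [e]
  exact isConnected_range (pullback.fst _ (S.fromSpecResidueField s)).continuous

variable {V : Type u} [CommRing V] [IsDomain V] [IsLocalRing V] [IsIntegrallyClosed V] {K : Type u} [Field K]
  [Algebra V K] [IsFractionRing V K] {G H : Over (Spec (CommRingCat.of V))} [GrpObj G] [GrpObj H] {r : ℕ}

/-- **a torus of the generic fibre extends along a monomorphism** -/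
theorem exists_torus_lift (u : G ⟶ H) [IsMonHom u] [Mono u] [LocallyOfFiniteType u.left]
    (φ : Red.DS (Spec (CommRingCat.of K)) (Fin r → ℤ) ⟶ Red.bc (baseMap V K) G) [IsMonHom φ]
    (β : Red.DS (Spec (CommRingCat.of V)) (Fin r → ℤ) ⟶ H) [IsMonHom β]
    (h : φ ≫ (Over.pullback (baseMap V K)).map u = bcHom (baseMap V K) β) :
    ∃ χ : Red.DS (Spec (CommRingCat.of V)) (Fin r → ℤ) ⟶ G, IsMonHom χ ∧ χ ≫ u = β := by
  let T := Red.DS (Spec (CommRingCat.of V)) (Fin r → ℤ)
  obtain ⟨D, hD, ψ, hψ⟩ := exists_local_lift u φ β h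
  haveI : Smooth T.hom := Groth.L08.Borel.smooth_of_isTorus (Groth.L01.Unip.isTorus_DS _ r)
  obtain ⟨X', c, a, b, hce, hcf, hcl, hcs, ha, hb, hab⟩ := Groth.L08.TorusWeights.exists_mul_cover_fppf
    (isConnected_fibre_DS _ r) D (fun s => ⟨(1 : 𝟙_ _ ⟶ T).left s, hD s, by
      rw [← Scheme.Hom.comp_apply, Over.w (1 : 𝟙_ _ ⟶ T)]; rfl⟩) (𝟙 T)
  have key : ∀ p : X' ⟶ T, (∀ x, p.left x ∈ D) → ∃ p' : X' ⟶ G, p' ≫ u = p ≫ β := fun p hp => by
    have hr : Set.range p.left ⊆ Set.range D.ι := by
      rintro _ ⟨x, rfl⟩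
      rw [D.range_ι]
      exact hp x
    let p₀ := IsOpenImmersion.lift D.ι p.left hr
    have hp₀ : p₀ ≫ D.ι = p.left := IsOpenImmersion.lift_fac _ _ _
    refine ⟨Over.homMk (p₀ ≫ ψ) ?_, Over.OverMorphism.ext ?_⟩
    · rw [Category.assoc, ← Over.w u, reassoc_of% hψ, ← Over.w p, ← hp₀, Category.assoc, Over.w β]
    · show (p₀ ≫ ψ) ≫ u.left = p.left ≫ β.left
      rw [Category.assoc, hψ, ← Category.assoc, hp₀]
  obtain ⟨a', ha'⟩ := key a ha
  obtain ⟨b', hb'⟩ := key b hb
  have hab' : (a' * b') ≫ u = c ≫ β := by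
    rw [MonObj.mul_comp, ha', hb', ← MonObj.mul_comp, ← hab, Category.comp_id]
  haveI := hcf
  haveI := hcl
  haveI := hcs
  haveI : Mono u.left := inferInstanceAs (Mono ((Over.forget _).map u))
  have hdesc : ∀ {Z : Scheme.{u}} (g₁ g₂ : Z ⟶ X'.left), g₁ ≫ c.left = g₂ ≫ c.left →
      g₁ ≫ (a' * b').left = g₂ ≫ (a' * b').left := fun g₁ g₂ hg => by
    rw [← cancel_mono u.left, Category.assoc, Category.assoc, ← Over.comp_left, hab', Over.comp_left,
      reassoc_of% hg]
  let χ : T ⟶ G := Over.homMk (EffectiveEpi.desc c.left (a' * b').left fun g₁ g₂ => hdesc g₁ g₂) (by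
    rw [← cancel_epi c.left, EffectiveEpi.fac_assoc, Over.w, Over.w])
  have hχ : χ ≫ u = β := by
    rw [← cancel_epi c, ← hab']
    refine Over.OverMorphism.ext ?_
    show c.left ≫ EffectiveEpi.desc c.left (a' * b').left _ ≫ u.left = _
    rw [EffectiveEpi.fac_assoc]
    rfl
  refine ⟨χ, ⟨?_, ?_⟩, hχ⟩
  · rw [← cancel_mono u, Category.assoc, hχ, IsMonHom.one_hom u, IsMonHom.one_hom β]
  · rw [← cancel_mono u, Category.assoc, hχ, Category.assoc, IsMonHom.mul_hom u, IsMonHom.mul_hom β,
      MonoidalCategory.tensorHom_comp_tensorHom_assoc, hχ]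

end Groth.L08.MonoURZ
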