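import Groth.Agent.L08.MonoURZ.CoreEnds
import Groth.Agent.L08.MonoURZ.Solv
import Groth.Agent.L08.MonoRed.Immersion

/-!
# Monomorphisms out of groups of unipotent rank zero with maximal tori are immersions
-/

set_option autoImplicit false
set_option linter.unusedSectionVars false
set_option linter.style.haveILetI false
set_option backward.isDefEq.respectTransparency.types false
set_option maxHeartbeats 1000000
set_option linter.deprecated false

universe u

open CategoryTheory CategoryTheory.Limits MonoidalCategory CartesianMonoidalCategory MonObj GrpObj AlgebraicGeometry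
open Groth.L25.SplitSub (bcHom)
open Groth.L25.LimHom (cmp isMonHom_cmp isMonHom_cmp_inv)
open Groth.L08.MonoRed IsLocalRing Topology

noncomputable section

namespace Groth.L08.MonoURZ

variable {S : Scheme.{u}} {G H : Over S} [GrpObj G] [GrpObj H] [Smooth G.hom] [QuasiCompact G.hom]
  (hu0 : SGA3x.UnipotentRankZero G) (htor : SGA3x.HasMaxTorusFpqcLocally G)
  (hconn : ∀ s : S, _root_.IsConnected (G.hom.base ⁻¹' {s}))
  [LocallyOfFiniteType H.hom] (u : G ⟶ H) (hqc : QuasiCompact u.left) [IsMonHom u] [Mono u]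

include hqc in
theorem props_urz : LocallyOfFinitePresentation u.left ∧ QuasiCompact u.left := by
  haveI : LocallyOfFinitePresentation (u.left ≫ H.hom) := by rw [Over.w u]; infer_instance
  exact ⟨Groth.L20.locallyOfFinitePresentation_of_comp u.left H.hom, hqc⟩

variable {V : Type u} [CommRing V] [IsDomain V] [ValuationRing V] {K : Type u} [Field K] [IsAlgClosed K] [Algebra V K]
  [IsFractionRing V K] (c : Spec (CommRingCat.of V) ⟶ H.left)
  (h₀ : c (PrimeSpectrum.comap (algebraMap V K) (IsLocalRing.closedPoint K)) ∈ Set.range u.left)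

include hu0 htor hconn h₀ in
/-- **a valuation ring hitting the image at both ends factors** -/
theorem exists_fac_urz (h₁ : c (IsLocalRing.closedPoint V) ∈ Set.range u.left) :
    ∃ γ : Spec (CommRingCat.of V) ⟶ G.left, γ ≫ u.left = c := by
  haveI : LocallyOfFiniteType (u.left ≫ H.hom) := by rw [Over.w u]; infer_instance
  haveI : LocallyOfFiniteType u.left := locallyOfFiniteType_of_comp u.left H.hom
  haveI : HenselianLocalRing V := Groth.L27.NormalSepClosed.henselianLocalRing (R := V) K
  haveI : IsAlgClosed (IsLocalRing.ResidueField V) := isAlgClosed_residue (V := V) (K := K)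
  haveI := isSeparated_of_conn hconn
  let b := c ≫ H.hom
  let ξ := baseMap V K
  let κ := closedMap V
  let h := upPt b c rfl
  haveI : Smooth (Red.bc b G).hom := inferInstanceAs (Smooth (pullback.snd G.hom b))
  haveI : QuasiCompact (Red.bc b G).hom := inferInstanceAs (QuasiCompact (pullback.snd G.hom b))
  haveI : IsSeparated (Red.bc b G).hom := inferInstanceAs (IsSeparated (pullback.snd G.hom b))
  haveI : LocallyOfFiniteType (Red.bc b H).hom := inferInstanceAs (LocallyOfFiniteType (pullback.snd H.hom b))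
  haveI : IsMonHom ((Over.pullback b).map u) := Groth.L25.MonoClosed.isMonHom_pullbackMap _ _
  haveI : IsMonHom ((Over.pullback κ).map ((Over.pullback b).map u)) :=
    Groth.L25.MonoClosed.isMonHom_pullbackMap _ _
  -- the two ends
  obtain ⟨g, hg⟩ := exists_point u.left (baseMap V K ≫ c) h₀
  have hgb : g ≫ G.hom = baseMap V K ≫ c ≫ H.hom := by rw [← Over.w u, reassoc_of% hg]
  have hκ : (κ ≫ c) (IsLocalRing.closedPoint (IsLocalRing.ResidueField V)) ∈ Set.range u.left := by
    rw [Scheme.Hom.comp_apply]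
    exact (show κ (IsLocalRing.closedPoint (IsLocalRing.ResidueField V)) = IsLocalRing.closedPoint V from
      IsLocalRing.comap_closedPoint (IsLocalRing.residue V)).symm ▸ h₁
  obtain ⟨g₁, hg₁⟩ := exists_point u.left (κ ≫ c) hκ
  have hg₁b : g₁ ≫ G.hom = κ ≫ b := by rw [← Over.w u, reassoc_of% hg₁, ]
  let x₀ := upPt₂ b κ g₁ hg₁b
  obtain ⟨r, i, hi⟩ := exists_maxTorus_strict htor b
  haveI := hi.1; haveI := hi.2.1
  have hgh := upPt₂_map b ξ u g hgb c rfl hg
  obtain ⟨γ, hγ'⟩ := exists_integral_point_ends i (isMaxTorus_bcHom i hi (closedMap V))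
    (selfCentral_bc hu0 b ξ (isMaxTorus_bcHom i hi ξ)) ((Over.pullback b).map u) _ h hgh x₀
    (upPt₂_map b κ u g₁ hg₁b c rfl hg₁)
  have hγ : bcPt ξ (γ ≫ (Over.pullback b).map u) = bcPt ξ h := by rw [← bcPt_comp, hγ', hgh]
  haveI : ConnectedSpace ↥(Red.bc κ (Red.bc b G)).left :=
    Groth.L08.Borel.connectedSpace_bc_point (Red.bc b G) (Groth.L25.Extension.isConnected_fibre_bc b G hconn) κ
  have hδ : h * (γ ≫ (Over.pullback b).map u)⁻¹ = 1 := by
    refine eq_one_of_fibres (K := K) ((Over.pullback b).map u) _ ?_ (x₀ * (bcPt κ γ)⁻¹) ?_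
    · rw [bcPt_mul, bcPt_inv, hγ, mul_inv_cancel]
    · rw [MonObj.mul_comp, GrpObj.inv_comp, bcPt_comp, bcPt_mul, bcPt_inv,
        upPt₂_map b κ u g₁ hg₁b c rfl hg₁]
  refine ⟨γ.left ≫ pullback.fst G.hom b, ?_⟩
  have h2 : (γ ≫ (Over.pullback b).map u).left ≫ pullback.fst H.hom b = c := by
    rw [← mul_inv_eq_one.1 hδ]
    exact upPt_left b c rfl
  refine Eq.trans ?_ h2
  simp only [Over.comp_left, Category.assoc]
  exact congrArg (γ.left ≫ ·) (pullback.lift_fst _ _ _).symm

include hqc in
theorem isLocallyConstructible_range_urz : IsLocallyConstructible (Set.range u.left) := by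
  haveI := (props_urz u hqc).1; haveI := (props_urz u hqc).2
  rw [← Set.image_univ]
  exact u.left.isLocallyConstructible_image IsConstructible.univ.isLocallyConstructible

include hu0 htor hconn hqc in
/-- **the image is closed in an open set** -/
theorem exists_open_urz :
    ∃ U : H.left.Opens, Set.range u.left ⊆ (U : Set H.left) ∧
      (U : Set H.left) ∩ closure (Set.range u.left) ⊆ Set.range u.left := by
  have hlc := isLocallyConstructible_range_urz u hqc
  refine ⟨⟨(closure ((Set.range u.left)ᶜ ∩ closure (Set.range u.left)))ᶜ, isClosed_closure.isOpen_compl⟩,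
    fun y hy hyc => ?_, fun y ⟨hy, hy'⟩ => by_contra fun h => hy (subset_closure ⟨h, hy'⟩)⟩
  obtain ⟨y', ⟨hy', hy'c⟩, hs'⟩ := exists_specializes_of_mem_closure (isLocallyConstructible_compl hlc) isClosed_closure hyc
  obtain ⟨ω₀, ⟨hgen₀, -⟩, hs⟩ := exists_specializes_of_mem_closure hlc isClosed_univ
    (x := y') (by rwa [Set.inter_univ])
  obtain ⟨Ω, _, _, V, c, h0, ⟨P, hP⟩, h2⟩ := exists_chain (x₀ := ω₀) hs hs'
  obtain ⟨γ, hγ⟩ := exists_fac_urz hu0 htor hconn u (K := Ω) c (h0.symm ▸ hgen₀) (h2.symm ▸ hy)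
  exact hy' ⟨γ P, by rw [← Scheme.Hom.comp_apply, hγ, hP]⟩

include hu0 htor hconn hqc in
/-- **lifting over any valuation ring** -/
theorem exists_lift_urz {R L : Type u} [CommRing R] [IsDomain R] [ValuationRing R] [Field L] [Algebra R L]
    [IsFractionRing R L] (i₁ : Spec (CommRingCat.of L) ⟶ G.left) (i₂ : Spec (CommRingCat.of R) ⟶ H.left)
    (hcomm : i₁ ≫ u.left = Spec.map (CommRingCat.ofHom (algebraMap R L)) ≫ i₂)
    (h1 : i₂ (closedPoint R) ∈ Set.range u.left) :
    ∃ l : Spec (CommRingCat.of R) ⟶ G.left,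
      Spec.map (CommRingCat.ofHom (algebraMap R L)) ≫ l = i₁ ∧ l ≫ u.left = i₂ := by
  haveI : Mono u.left := inferInstanceAs (Mono ((Over.forget _).map u))
  obtain ⟨Ω, _, _, _, W, j, hj, hjf, hjs, hjr, -⟩ := exists_extension R L
  haveI := hj; haveI := hjf; haveI := hjs
  let J := Spec.map (CommRingCat.ofHom j)
  let θ := Spec.map (CommRingCat.ofHom (algebraMap L Ω))
  have hθ : baseMap W Ω ≫ J ≫ i₂ = θ ≫ i₁ ≫ u.left := by
    rw [hcomm, ← Category.assoc, ← Category.assoc, ← Spec.map_comp, ← Spec.map_comp]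
    congr 2
    exact CommRingCat.hom_ext (RingHom.ext hjr)
  have h0 : (J ≫ i₂) (PrimeSpectrum.comap (algebraMap W Ω) (closedPoint Ω)) ∈ Set.range u.left :=
    ⟨i₁ (θ (closedPoint Ω)), by
      rw [← Scheme.Hom.comp_apply, ← Scheme.Hom.comp_apply, ← hθ]
      rfl⟩
  obtain ⟨γ, hγ⟩ := exists_fac_urz hu0 htor hconn u (K := Ω) (J ≫ i₂) h0 (by
    rw [Scheme.Hom.comp_apply, apply_closedPoint j]
    exact h1)
  let l := EffectiveEpi.desc J γ fun g₁ g₂ hg => by
    rw [← cancel_mono u.left, Category.assoc, Category.assoc, hγ, reassoc_of% hg]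
  have hl : l ≫ u.left = i₂ := by rw [← cancel_epi J, EffectiveEpi.fac_assoc, hγ]
  exact ⟨l, by rw [← cancel_mono u.left, Category.assoc, hl, hcomm], hl⟩

include hu0 htor hconn hqc in
/-- **a monomorphism from a group of unipotent rank zero is an immersion** -/
theorem isImmersion_of_mono_urz : IsImmersion u.left := by
  haveI := (props_urz u hqc).1; haveI := (props_urz u hqc).2
  haveI : Mono u.left := inferInstanceAs (Mono ((Over.forget _).map u))
  have key : ∀ U : H.left.Opens, Set.range u.left ⊆ (U : Set H.left) →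
      (U : Set H.left) ∩ closure (Set.range u.left) ⊆ Set.range u.left → IsImmersion u.left := by
    intro U hU hU'
    let u' : G.left ⟶ U.toScheme := IsOpenImmersion.lift U.ι u.left (by rwa [Scheme.Opens.range_ι])
    have hu' : u' ≫ U.ι = u.left := IsOpenImmersion.lift_fac _ _ _
    haveI : Mono (u' ≫ U.ι) := by rw [hu']; infer_instance
    haveI : Mono u' := mono_of_mono u' U.ι
    haveI : QuasiCompact (u' ≫ U.ι) := by rw [hu']; infer_instance
    haveI : QuasiCompact u' := QuasiCompact.of_comp u' U.ι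
    haveI : LocallyOfFiniteType (u' ≫ U.ι) := by rw [hu']; infer_instance
    haveI : LocallyOfFiniteType u' := locallyOfFiniteType_of_comp u' U.ι
    have hex : ValuativeCriterion.Existence u' := fun sq => by
      have hcomm : sq.i₁ ≫ u.left = Spec.map (CommRingCat.ofHom (algebraMap sq.R sq.K)) ≫ sq.i₂ ≫ U.ι := by
        rw [← hu', reassoc_of% sq.commSq.w]
      obtain ⟨l, hl₁, hl₂⟩ := exists_lift_urz hu0 htor hconn u hqc sq.i₁ (sq.i₂ ≫ U.ι) hcomm
        (hU' ⟨(sq.i₂ (closedPoint sq.R)).2, by
        have hgen : (sq.i₂ ≫ U.ι) (PrimeSpectrum.comap (algebraMap sq.R sq.K) (closedPoint sq.K)) ∈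
            Set.range u.left := ⟨sq.i₁ (closedPoint sq.K), by
              rw [← Scheme.Hom.comp_apply, hcomm]; rfl⟩
        exact ((IsLocalRing.specializes_closedPoint _).map (sq.i₂ ≫ U.ι).continuous).mem_closed isClosed_closure
          (subset_closure hgen)⟩)
      exact ⟨⟨⟨l, hl₁, by rw [← cancel_mono U.ι, Category.assoc, hu', hl₂]⟩⟩⟩
    haveI : UniversallyClosed u' := UniversallyClosed.of_valuativeCriterion _ hex
    haveI : IsProper u' := ⟨⟩
    haveI : IsClosedImmersion u' := (IsClosedImmersion.iff_isProper_and_mono u').2 ⟨inferInstance, inferInstance⟩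
    rw [← hu']
    infer_instance
  obtain ⟨U, hU, hU'⟩ := exists_open_urz hu0 htor hconn u hqc
  exact key U hU hU'

end Groth.L08.MonoURZ
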