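import Groth.Agent.L08.MonoURZ.CoreGen
import Groth.Agent.L19.AlgGrpBasic.SepLift
import Groth.Agent.L08.MonoRed.Setup
import Mathlib.AlgebraicGeometry.ValuativeCriterion

/-!
# Normalising points modulo a torus extend when the Weyl group is finite
-/

set_option autoImplicit false
set_option linter.unusedSectionVars false
set_option linter.style.haveILetI false
set_option backward.isDefEq.respectTransparency.types false
set_option maxHeartbeats 1000000
set_option linter.deprecated false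

universe u

open CategoryTheory CategoryTheory.Limits MonoidalCategory CartesianMonoidalCategory MonObj GrpObj AlgebraicGeometry
open Groth.L25.SplitSub (bcDS bcHom isMonHom_bcHom bcDS_hom_bcHom)
open Groth.L25.NilAction (toBase ofBase toBase_ofBase ofBase_toBase toBase_one toBase_mul)
open Groth.L08.Borel (toBase_comp toBase_map' toBase_injective)
open Groth.L08.MonoRed

noncomputable section

namespace Groth.L08.MonoURZ

/-- monomorphisms with the same points are isomorphic -/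
theorem exists_iso_of_points {S : Scheme.{u}} {G A B : Over S} (a : A ⟶ G) (b : B ⟶ G) [Mono a] [Mono b]
    (h : ∀ (X : Over S) (g : X ⟶ G), (∃ w, w ≫ a = g) ↔ ∃ w, w ≫ b = g) : ∃ e : A ≅ B, e.hom ≫ b = a := by
  obtain ⟨w, hw⟩ := (h A a).1 ⟨𝟙 _, Category.id_comp _⟩
  obtain ⟨w', hw'⟩ := (h B b).2 ⟨𝟙 _, Category.id_comp _⟩
  exact ⟨⟨w, w', by rw [← cancel_mono a, Category.assoc, hw', hw, Category.id_comp],
    by rw [← cancel_mono b, Category.assoc, hw, hw', Category.id_comp]⟩, hw⟩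

variable {V : Type u} [CommRing V] [IsDomain V] [ValuationRing V] {K : Type u} [Field K] [Algebra V K]
  [IsFractionRing V K]

/-- generic points of finite schemes are integral -/
theorem exists_point_of_isFinite {W : Over (Spec (CommRingCat.of V))} [IsFinite W.hom]
    (w₀ : Over.mk (baseMap V K) ⟶ W) :
    ∃ w : 𝟙_ (Over (Spec (CommRingCat.of V))) ⟶ W, toUnit _ ≫ w = w₀ := by
  have hU : UniversallyClosed W.hom := inferInstance
  rw [UniversallyClosed.eq_valuativeCriterion] at hU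
  obtain ⟨⟨l⟩⟩ := hU.1 ⟨V, K, w₀.left, 𝟙 (Spec (CommRingCat.of V)),
    ⟨by rw [Over.w w₀, Category.comp_id]; rfl⟩⟩
  refine ⟨Over.homMk l.l l.fac_right, Over.OverMorphism.ext ?_⟩
  show (toUnit (Over.mk (baseMap V K))).left ≫ l.l = w₀.left
  rw [show (toUnit (Over.mk (baseMap V K))).left = baseMap V K from
    (Category.comp_id _).symm.trans (Over.w (toUnit (Over.mk (baseMap V K))))]
  exact l.fac_left

variable [HenselianLocalRing V] [IsAlgClosed (IsLocalRing.ResidueField V)]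

/-- points of the target of a smooth surjection lift -/
theorem exists_point_lift {N W : Over (Spec (CommRingCat.of V))} (q : N ⟶ W) [Smooth q.left] [Surjective q.left]
    (w : 𝟙_ (Over (Spec (CommRingCat.of V))) ⟶ W) : ∃ n : 𝟙_ (Over (Spec (CommRingCat.of V))) ⟶ N, n ≫ q = w := by
  let wl : Spec (CommRingCat.of V) ⟶ W.left := w.left
  let π : pullback q.left wl ⟶ Spec (CommRingCat.of V) := pullback.snd q.left wl
  haveI : Smooth π := inferInstance
  obtain ⟨a, ha⟩ := q.left.surjective (wl (IsLocalRing.closedPoint V))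
  obtain ⟨z, -, hz⟩ := Scheme.Pullback.exists_preimage_pullback (f := q.left) (g := wl) a
    (IsLocalRing.closedPoint V) ha
  haveI : LocallyOfFiniteType (pullback.snd π (closedMap V)) := inferInstance
  obtain ⟨z₁, -, -⟩ := Scheme.Pullback.exists_preimage_pullback (f := π) (g := closedMap V) z
    (IsLocalRing.closedPoint (IsLocalRing.ResidueField V)) (by
      rw [hz]
      exact (IsLocalRing.comap_closedPoint (IsLocalRing.residue V)).symm)
  let P₀ : Scheme.{u} := pullback π (closedMap V)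
  haveI : JacobsonSpace P₀ := LocallyOfFiniteType.jacobsonSpace (pullback.snd π (closedMap V))
  obtain ⟨z₀, -, hz₀⟩ := nonempty_inter_closedPoints (X := P₀) (Z := Set.univ)
    ⟨z₁, trivial⟩ isOpen_univ.isLocallyClosed
  obtain ⟨σ₀, hσ₀, -⟩ := Groth.L08.Cube.exists_section_of_isClosed (pullback.snd π (closedMap V)) z₀ hz₀
  obtain ⟨σ, hσ, -⟩ := Groth.L05.SecLift.exists_section π (σ₀ ≫ pullback.fst π (closedMap V)) (by
    rw [Category.assoc, pullback.condition, reassoc_of% hσ₀])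
  refine ⟨Over.homMk (σ ≫ pullback.fst q.left wl) ?_, Over.OverMorphism.ext ?_⟩
  · rw [Category.assoc, ← Over.w q, pullback.condition_assoc, reassoc_of% hσ]
    exact Over.w w
  · show (σ ≫ pullback.fst q.left wl) ≫ q.left = wl
    rw [Category.assoc, pullback.condition, reassoc_of% hσ]

variable {G : Over (Spec (CommRingCat.of V))} [GrpObj G] [Smooth G.hom] [IsSeparated G.hom] [QuasiCompact G.hom]
  {r : ℕ} (i : Red.DS (Spec (CommRingCat.of V)) (Fin r → ℤ) ⟶ G) [IsMonHom i] [Mono i]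
  {N C W : Over (Spec (CommRingCat.of V))} [GrpObj N] [GrpObj C] [GrpObj W] {nn : N ⟶ G} {c : C ⟶ N} {q : N ⟶ W}
  (hN : Red.IsNormalizerOf i nn) (hCn : Red.IsCentralizerOf i (c ≫ nn)) [IsMonHom q]
  [Surjective q.left] [Flat q.left] (hker : AlgGrp.IsKernel c q) [IsFinite W.hom]
  (hCK : Red.IsCentralizerOf (bcHom (baseMap V K) i) (bcHom (baseMap V K) i))

include hN hCn hker in
/-- the projection to the Weyl group is smooth -/
theorem smooth_toWeyl : Smooth q.left := by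
  have m := Groth.L25.Locus.isMultTypeFT_of_isTorus (Groth.L01.Unip.isTorus_DS (Spec (CommRingCat.of V)) r)
  haveI := Groth.L25.MonoClosed.isClosedImmersion_of_mono m i
  have l := Groth.L25.Locus.locally_of_multTypeFT m
  obtain ⟨Z, gZ, j, hj, hjc, hjs⟩ := Groth.L25.Locus.exists_smooth_centralizer l i
  haveI := hjs; haveI := hj.2.1; haveI := hCn.2.1
  obtain ⟨e, he⟩ := exists_iso_of_points (c ≫ nn) j fun X g => (hCn.2.2 X g).trans (hj.2.2 X g).symm
  haveI : IsIso e.hom.left := inferInstanceAs (IsIso ((Over.forget _).map e.hom))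
  haveI : Smooth C.hom := by rw [← Over.w e.hom]; infer_instance
  obtain ⟨W₂, j₂, hj₂, -, hW₂⟩ := Groth.L25.Locus.exists_subgroupTransporter l l i i
  haveI := hj₂; haveI := hN.2.1
  haveI : Mono j₂ := Over.mono_of_mono_left j₂
  obtain ⟨e₂, he₂⟩ := exists_iso_of_points nn j₂ fun X g => by
    rw [hN.2.2 X g, hW₂ X g]
    exact ⟨fun h => ⟨fun X' x y => (h X' x y).1, fun X' x y => (h X' x y).2⟩,
      fun h X' x y => ⟨h.1 X' x y, h.2 X' x y⟩⟩
  haveI : IsIso e₂.hom.left := inferInstanceAs (IsIso ((Over.forget _).map e₂.hom))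
  haveI : QuasiCompact N.hom := by
    rw [← Over.w e₂.hom, ← Over.w j₂]; infer_instance
  haveI : IsSeparated W.hom := inferInstance
  haveI : QuasiCompact (q.left ≫ W.hom) := by rw [Over.w q]; infer_instance
  haveI : QuasiCompact q.left := QuasiCompact.of_comp q.left W.hom
  exact Groth.L19.AlgGrpBasic.smooth_of_isKernel c q hker

include hN hCn hker hCK in
/-- **a generic point normalising the torus is integral modulo the torus** -/
theorem exists_normalizing (n : 𝟙_ (Over (Spec (CommRingCat.of K))) ⟶ Red.bc (baseMap V K) G)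
    (θ : Red.DS (Spec (CommRingCat.of K)) (Fin r → ℤ) ⟶ Red.DS (Spec (CommRingCat.of K)) (Fin r → ℤ)) [IsMonHom θ]
    (h : AGF.conjBy n (bcHom (baseMap V K) i) = θ ≫ bcHom (baseMap V K) i) :
    ∃ (n' : 𝟙_ (Over (Spec (CommRingCat.of V))) ⟶ G)
      (t : 𝟙_ (Over (Spec (CommRingCat.of K))) ⟶ Red.DS (Spec (CommRingCat.of K)) (Fin r → ℤ)),
      n = bcPt (baseMap V K) n' * (t ≫ bcHom (baseMap V K) i) := by
  let ξ := baseMap V K
  haveI := isMonHom_bcHom ξ i
  haveI : Mono (bcHom ξ i) := inferInstanceAs (Mono ((bcDS ξ).inv ≫ (Over.pullback ξ).map i))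
  haveI : Mono (AGF.conjBy n (bcHom ξ i)) := Groth.L08.Borel.mono_conjBy n (bcHom ξ i)
  haveI : Mono θ := by
    haveI : Mono (θ ≫ bcHom ξ i) := by rw [← h]; exact inferInstanceAs (Mono (AGF.conjBy n (bcHom ξ i)))
    exact mono_of_mono θ (bcHom ξ i)
  haveI := Groth.L25.SplitSub.isIso_of_mono_split le_rfl θ
  -- the point normalises over the base
  let f := bcDS ξ ≪≫ asIso θ ≪≫ (bcDS ξ).symm
  have hf : f.hom ≫ (Over.pullback ξ).map i =
      (toUnit _ ≫ n) * (Over.pullback ξ).map i * (toUnit _ ≫ n)⁻¹ := by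
    show _ = AGF.conjBy n ((Over.pullback ξ).map i)
    rw [← bcDS_hom_bcHom ξ i, ← comp_conj, h]
    simp only [f, ξ, Iso.trans_hom, Iso.symm_hom, asIso_hom, Category.assoc, bcHom, Iso.hom_inv_id_assoc]
  have hinv : f.inv ≫ (Over.pullback ξ).map i =
      (toUnit _ ≫ n⁻¹) * (Over.pullback ξ).map i * (toUnit _ ≫ n⁻¹)⁻¹ := by
    show _ = AGF.conjBy n⁻¹ ((Over.pullback ξ).map i)
    rw [Iso.inv_comp_eq, comp_conj, hf]
    show _ = AGF.conjBy n⁻¹ (AGF.conjBy n ((Over.pullback ξ).map i))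
    rw [conj_conj, inv_mul_cancel, conj_one]
  let e : Over.mk ξ ⟶ Over.mk ((𝟙_ (Over (Spec (CommRingCat.of K)))).hom ≫ ξ) := Over.homMk (𝟙 _) (by
    show 𝟙 _ ≫ 𝟙 _ ≫ ξ = ξ
    rw [Category.id_comp, Category.id_comp])
  let x : Over.mk ξ ⟶ G := e ≫ toBase ξ n
  have hx : ∀ (Y : Over (Spec (CommRingCat.of K))), toBase ξ (toUnit Y ≫ n) =
      (Over.homMk Y.hom rfl : Over.mk (Y.hom ≫ ξ) ⟶ Over.mk ξ) ≫ x := fun Y => by
    apply Over.OverMorphism.ext
    show ((toUnit Y).left ≫ n.left) ≫ _ = Y.hom ≫ 𝟙 _ ≫ n.left ≫ _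
    rw [show (toUnit Y).left = Y.hom from (Category.comp_id _).symm.trans (Over.w (toUnit Y)), Category.id_comp,
      Category.assoc]
  have hx' : ∀ (Y : Over (Spec (CommRingCat.of K))), toBase ξ (toUnit Y ≫ n⁻¹) =
      (Over.homMk Y.hom rfl : Over.mk (Y.hom ≫ ξ) ⟶ Over.mk ξ) ≫ x⁻¹ := fun Y => by
    rw [GrpObj.comp_inv, GrpObj.comp_inv, ← hx Y]
    exact eq_inv_of_mul_eq_one_left (by rw [← toBase_mul, inv_mul_cancel, toBase_one])
  have s1 := Groth.L08.Borel.exists_sends_of_fibre ξ (i₁ := i) (i₂ := i) n f.hom hf x hx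
  have s2 := Groth.L08.Borel.exists_sends_of_fibre ξ (i₁ := i) (i₂ := i) n⁻¹ f.inv hinv x⁻¹ hx'
  obtain ⟨z, hz⟩ := (hN.2.2 (Over.mk ξ) x).2 fun X' t y => ⟨s1 X' t y, by
    obtain ⟨y', hy'⟩ := s2 X' t y
    exact ⟨y', by simpa only [GrpObj.comp_inv, _root_.inv_inv] using hy'⟩⟩
  -- the image in the Weyl group is integral
  haveI := hN.1
  haveI := smooth_toWeyl i hN hCn hker
  obtain ⟨w, hw⟩ := exists_point_of_isFinite (z ≫ q)
  obtain ⟨n₁, hn₁⟩ := exists_point_lift q w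
  let a : Over.mk ξ ⟶ N := (toUnit _ ≫ n₁)⁻¹ * z
  have ha : a ≫ q = 1 := by
    rw [MonObj.mul_comp, GrpObj.inv_comp, Category.assoc, hn₁, hw, inv_mul_cancel]
  obtain ⟨cc, hcc⟩ := Groth.L19.AlgGrpBasic.exists_of_isKernel hker a ha
  let g : Over.mk ξ ⟶ G := (toUnit _ ≫ n₁ ≫ nn)⁻¹ * x
  have hg : cc ≫ c ≫ nn = g := by
    rw [← Category.assoc, hcc, MonObj.mul_comp, GrpObj.inv_comp, Category.assoc, hz]
  have hcomm := (hCn.2.2 (Over.mk ξ) g).1 ⟨cc, hg⟩
  refine ⟨n₁ ≫ nn, ?_⟩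
  let gK := (bcPt ξ (n₁ ≫ nn))⁻¹ * n
  suffices hgK : ∃ t, t ≫ bcHom ξ i = gK by
    obtain ⟨t, ht⟩ := hgK
    exact ⟨t, by rw [ht]; simp only [gK, ξ, mul_inv_cancel_left]⟩
  refine (hCK.2.2 _ gK).2 fun X' t y => ?_
  let c₀ : Over.mk (X'.hom ≫ ξ) ⟶ Over.mk ξ := Over.homMk X'.hom rfl
  have htu : t = toUnit X' := toUnit_unique _ _
  have h1 : toBase ξ (t ≫ gK) = c₀ ≫ g := by
    have h2 : toBase ξ (toUnit X' ≫ bcPt ξ (n₁ ≫ nn)) = c₀ ≫ toUnit _ ≫ n₁ ≫ nn := by
      rw [toBase_comp, toBase_bcPt, ← Category.assoc, ← Category.assoc c₀ (toUnit _)]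
      exact congrArg (· ≫ n₁ ≫ nn) (toUnit_unique _ _)
    have h3 : toBase ξ (toUnit X' ≫ (bcPt ξ (n₁ ≫ nn))⁻¹) = (c₀ ≫ toUnit _ ≫ n₁ ≫ nn)⁻¹ := by
      rw [← h2, GrpObj.comp_inv]
      exact eq_inv_of_mul_eq_one_left (by rw [← toBase_mul, inv_mul_cancel, toBase_one])
    rw [htu, MonObj.comp_mul, toBase_mul, h3, hx X', MonObj.comp_mul, GrpObj.comp_inv]
  have h4 : toBase ξ (y ≫ bcHom ξ i) = toBase ξ (y ≫ (bcDS ξ).inv) ≫ i := by
    rw [← toBase_map', bcHom, Category.assoc]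
  refine toBase_injective ξ _ _ ?_
  rw [toBase_mul, toBase_mul, h1, h4]
  exact hcomm _ c₀ _

end Groth.L08.MonoURZ
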